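import Cfsg.Agent.Lib.BinaryPSL.Sub

/-!
In characteristic two the stabilisers of binary actions of `PSL₂` are Sylow subgroups or have order three,
and these actions are binary.
-/

set_option autoImplicit false
set_option linter.unusedSectionVars false

namespace CfsgLib.BinaryPSL

open Matrix Subgroup
open CfsgLib.Fusion (conjSub mem_conjSub conj_mem_conjSub conjSub_conjSub conjSub_one conjSub_mono card_conjSub
  conjSub_eq_iff_mem_normalizer)
open CfsgLib.Fusion.PSL2 (ext2 det_eq mul_entry negOne sq_of_trace_zero)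
open CfsgLib.LocalEven.FaithfulBound (upper lower upper00 upper01 upper10 upper11 lower00 lower01 lower10 lower11
  trace_of_pow_char conj_upper_of_trace)
open CfsgLib.LocalEven.RankOne (upperHom upper_mul eq_top_of_upper_of_lowerLeft weyl weyl00 weyl01 weyl10 weyl11)

variable {F : Type*} [Field F] [Fintype F] [CharP F 2]

local notation "S₂" => Matrix.SpecialLinearGroup (Fin 2) F
local notation "G₂" => Matrix.ProjectiveSpecialLinearGroup (Fin 2) F

/-- The image of the upper unitriangular group. -/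
def upperGroup (F : Type*) [Field F] : Subgroup (Matrix.ProjectiveSpecialLinearGroup (Fin 2) F) :=
  ((pr : Matrix.SpecialLinearGroup (Fin 2) F →* _).comp upperHom).range

theorem upper_mem_upperGroup (t : F) : pr (upper t) ∈ upperGroup F := ⟨Multiplicative.ofAdd t, rfl⟩

theorem exists_of_mem_upperGroup {x : G₂} (h : x ∈ upperGroup F) : ∃ t, pr (upper t) = x := by
  obtain ⟨t, ht⟩ := h
  exact ⟨Multiplicative.toAdd t, ht⟩

theorem negOne_eq_one : (negOne : S₂) = 1 :=
  ext2 (by simp [negOne, CharTwo.neg_eq]) (by simp [negOne]) (by simp [negOne]) (by simp [negOne, CharTwo.neg_eq])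

theorem pr_injective : Function.Injective (pr : S₂ → G₂) := fun a b h => by
  rcases pr_eq_iff.1 h with e | e
  · exact e
  · rw [e, negOne_eq_one, one_mul]

theorem eq_top_of_lowerLeft {K : Subgroup G₂} (hu : upperGroup F ≤ K) {g : S₂} (hg : pr g ∈ K)
    (hc : g.1 1 0 ≠ 0) : K = ⊤ := by
  have h := eq_top_of_upper_of_lowerLeft (H := K.comap (pr : S₂ →* G₂)) (fun t => hu (upper_mem_upperGroup t))
    hg hc
  refine eq_top_iff.2 fun x _ => ?_
  obtain ⟨a, rfl⟩ := pr_surjective x
  exact (show a ∈ K.comap (pr : S₂ →* G₂) from h ▸ mem_top a)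

theorem sq_upper (t : F) : pr (upper t) * pr (upper t) = (1 : G₂) := by
  rw [← map_mul, upper_mul, CharTwo.add_self_eq_zero, upper_zero, map_one]

/-- An involution is conjugate to an upper unitriangular element. -/
theorem exists_upper_of_sq {x : G₂} (h1 : x ≠ 1) (h2 : x * x = 1) :
    ∃ (P : S₂) (c : F), c ≠ 0 ∧ pr P * pr (upper c) * (pr P)⁻¹ = x := by
  obtain ⟨e, rfl⟩ := pr_surjective x
  rw [← map_mul, ← map_one (pr : S₂ →* G₂)] at h2
  obtain ⟨P, c, hc, hP⟩ := conj_upper_of_trace (trace_of_pow_char (p := 2) (x := e)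
    (by rw [sq]; exact pr_injective h2)) (fun h => h1 (by rw [h, map_one]))
  exact ⟨P, c, hc, by rw [← map_inv, ← map_mul, ← map_mul, hP]⟩

theorem mem_upperGroup_of_comm {t : F} (ht : t ≠ 0) {x : G₂} (h : x * pr (upper t) = pr (upper t) * x) :
    x ∈ upperGroup F := by
  obtain ⟨g, rfl⟩ := pr_surjective x
  rw [← map_mul, ← map_mul] at h
  have e00 := congrArg (fun z : S₂ => z.1 0 0) (pr_injective h)
  have e01 := congrArg (fun z : S₂ => z.1 0 1) (pr_injective h)
  simp only [mul_entry, upper00, upper01, upper10, upper11] at e00 e01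
  have h10 : g.1 1 0 = 0 := (mul_eq_zero.1 (show t * g.1 1 0 = 0 by linear_combination -e00)).resolve_left ht
  have heq : g.1 0 0 = g.1 1 1 := mul_left_cancel₀ ht (by linear_combination e01)
  have hd := det_eq g
  rw [h10, ← heq] at hd
  have h0 : g.1 0 0 = 1 := by
    rcases mul_self_eq_one_iff.1 (show g.1 0 0 * g.1 0 0 = 1 by linear_combination hd) with e | e
    · exact e
    · rw [e, CharTwo.neg_eq]
  have he : g = upper (g.1 0 1) := ext2 (by rw [upper00, h0]) (by rw [upper01]) (by rw [upper10, h10])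
    (by rw [upper11, ← heq, h0])
  rw [he]
  exact upper_mem_upperGroup _

/-- Elements of trace one with product of trace one are equal if there is no primitive cube root. -/
theorem eq_of_trace_one (hroot : ∀ ω : F, ω * ω + ω + 1 ≠ 0) {a b : S₂} (ha : tr a = 1) (hb : tr b = 1)
    (hab : tr (a * b) = 1) : a = b := by
  have h2 : (2 : F) = 0 := CharTwo.two_eq_zero
  have da := det_eq a
  have db := det_eq b
  simp only [tr] at ha hb
  simp only [tr, mul_entry] at hab
  have a11 : a.1 1 1 = 1 + a.1 0 0 := by linear_combination ha + (-a.1 0 0) * h2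
  have b11 : b.1 1 1 = 1 + b.1 0 0 := by linear_combination hb + (-b.1 0 0) * h2
  rw [a11] at da
  rw [b11] at db
  rw [a11, b11] at hab
  obtain ⟨P, hP⟩ : ∃ P, P = a.1 0 0 + b.1 0 0 := ⟨_, rfl⟩
  obtain ⟨Q, hQ⟩ : ∃ Q, Q = a.1 0 1 + b.1 0 1 := ⟨_, rfl⟩
  obtain ⟨R, hR⟩ : ∃ R, R = a.1 1 0 + b.1 1 0 := ⟨_, rfl⟩
  have e1 : P = a.1 0 1 * R + a.1 1 0 * Q := by
    linear_combination hP - a.1 0 1 * hR - a.1 1 0 * hQ + hab +
      (-(a.1 0 1 * a.1 1 0) - a.1 0 1 * b.1 1 0 - b.1 0 1 * a.1 1 0 - a.1 0 0 * b.1 0 0) * h2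
  have e2 : P * P + Q * R = 0 := by
    linear_combination (P + a.1 0 0 + b.1 0 0) * hP + R * hQ + (a.1 0 1 + b.1 0 1) * hR + da + db + hab +
      (a.1 0 1 * a.1 1 0 + b.1 0 1 * b.1 1 0 - a.1 0 0 - b.1 0 0 + 1) * h2
  have hR0 : R = 0 := by
    by_contra hne
    set X := a.1 1 0 * a.1 1 0 * Q / R with hX
    have hXR : X * R = a.1 1 0 * a.1 1 0 * Q := div_mul_cancel₀ _ hne
    have key : (X * X + X + (a.1 0 1 * a.1 1 0) * (a.1 0 1 * a.1 1 0)) * (R * R) = 0 := by
      linear_combination (X * R + a.1 1 0 * a.1 1 0 * Q + R) * hXR + a.1 1 0 * a.1 1 0 * e2 +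
        (-(a.1 1 0 * a.1 1 0) * (P + (a.1 0 1 * R + a.1 1 0 * Q))) * e1 +
        (-(a.1 0 1 * a.1 1 0 * a.1 1 0 * a.1 1 0 * Q * R)) * h2
    refine hroot (X + a.1 0 0 * a.1 0 0) ?_
    linear_combination (mul_eq_zero.1 key).resolve_right (mul_ne_zero hne hne) +
      (a.1 0 0 + a.1 0 0 * a.1 0 0 + a.1 0 1 * a.1 1 0 - 1) * da +
      (X * (a.1 0 0 * a.1 0 0) + a.1 0 0 + a.1 0 0 * a.1 0 0 - a.1 0 0 * a.1 0 0 * a.1 0 0) * h2
  have hQ0 : Q = 0 := by
    by_contra hne
    have hq : a.1 1 0 = 0 := by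
      have h : (a.1 1 0 * Q) * (a.1 1 0 * Q) = 0 := by
        linear_combination e2 - (P + a.1 0 1 * R + a.1 1 0 * Q) * e1 -
          (a.1 0 1 * a.1 0 1 * R + 2 * a.1 0 1 * a.1 1 0 * Q + Q) * hR0
      exact (mul_eq_zero.1 (mul_self_eq_zero.1 h)).resolve_right hne
    refine hroot (a.1 0 0) ?_
    rw [hq] at da
    linear_combination da + h2
  have hP0 : P = 0 := by rw [e1, hR0, hQ0]; ring
  have k00 : b.1 0 0 = a.1 0 0 := by linear_combination hP0 - hP + (-a.1 0 0) * h2
  exact ext2 k00.symm (by linear_combination -hQ0 + hQ + (a.1 0 1) * h2)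
    (by linear_combination -hR0 + hR + (a.1 1 0) * h2) (by rw [a11, b11, k00])

/-- Elements of order three have trace one. -/
theorem tr_eq_one_of_cube {e : S₂} (h1 : e ≠ 1) (h3 : e * e * e = 1) : tr e = 1 := by
  have h2 : (2 : F) = 0 := CharTwo.two_eq_zero
  have h := tr_inv e
  rw [← eq_inv_of_mul_eq_one_left h3] at h
  have hd := det_eq e
  simp only [tr, mul_entry] at h
  have ht : tr e * (tr e - 1) = 0 := by
    rw [tr]
    linear_combination h + 2 * hd + h2
  rcases mul_eq_zero.1 ht with h0 | h0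
  · refine absurd ?_ h1
    rwa [sq_of_trace_zero h0, negOne_eq_one, one_mul] at h3
  · exact sub_eq_zero.1 h0

/-- A non-trivial member of odd order has order three and there is no primitive cube root. -/
theorem odd_member {H K : Subgroup G₂} (hb : IsBin H) (hK : IsMeet H K) (hne : K ≠ ⊥)
    (hodd : ¬ 2 ∣ Nat.card K) : (∀ ω : F, ω * ω + ω + 1 ≠ 0) ∧ Nat.card K = 3 := by
  classical
  have h2 : (2 : F) = 0 := CharTwo.two_eq_zero
  have general : ∀ K' : Subgroup G₂, IsMeet H K' → ¬ 2 ∣ Nat.card K' →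
      (∀ x ∈ K', ∀ y ∈ K', x * y = y * x) ∧ (∀ e : S₂, pr e ∈ K' → pr e ≠ 1 → tr e ≠ 0) ∧
        ∀ e : S₂, pr e ∈ K' → pr e ≠ 1 → tr e = 1 := by
    intro K' hK' hodd'
    have hcomm := comm_of_odd 2 K' hodd' hodd'
    have htr : ∀ e : S₂, pr e ∈ K' → pr e ≠ 1 → tr e ≠ 0 := fun e he h1 h0 => hodd' (by
      have hq : pr e * pr e = 1 := by rw [← map_mul, sq_of_trace_zero h0, pr_negOne]
      have : orderOf (⟨pr e, he⟩ : K') = 2 := orderOf_eq_prime (Subtype.ext (by simp [sq, hq]))
        (fun h => h1 (congrArg Subtype.val h))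
      exact this.symm.dvd.trans (orderOf_dvd_natCard _))
    refine ⟨hcomm, htr, fun e he h1 => by_contra fun ht => ?_⟩
    obtain ⟨b, hb1, hb2, hb3⟩ := exists_pair_two (htr e he h1) ht
    obtain ⟨x, hx⟩ := exists_conjSub_of_isConj hb1 he
    obtain ⟨y, hy⟩ := exists_conjSub_of_isConj hb2 he
    exact false_of_pair hb hK' hcomm htr he hb3 (htr e he h1) hx hy
  obtain ⟨-, -, htr1⟩ := general K hK hodd
  obtain ⟨u, hu, hu1⟩ := (bot_or_exists_ne_one K).resolve_left hne
  obtain ⟨y, rfl⟩ := pr_surjective u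
  have hroot : ∀ ω : F, ω * ω + ω + 1 ≠ 0 := by
    intro ω hω
    obtain ⟨a, a00, a01, a10, a11⟩ : ∃ a : S₂, a.1 0 0 = ω ∧ a.1 0 1 = 0 ∧ a.1 1 0 = 0 ∧ a.1 1 1 = ω + 1 :=
      ⟨⟨!![ω, 0; 0, ω + 1], by rw [Matrix.det_fin_two]; simp; linear_combination hω - h2⟩, rfl, rfl, rfl, rfl⟩
    obtain ⟨b, b00, b01, b10, b11⟩ : ∃ b : S₂, b.1 0 0 = ω ∧ b.1 0 1 = 1 ∧ b.1 1 0 = 0 ∧ b.1 1 1 = ω + 1 :=
      ⟨⟨!![ω, 1; 0, ω + 1], by rw [Matrix.det_fin_two]; simp; linear_combination hω - h2⟩, rfl, rfl, rfl, rfl⟩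
    have ta : tr a = 1 := by rw [tr, a00, a11]; linear_combination ω * h2
    have tb : tr b = 1 := by rw [tr, b00, b11]; linear_combination ω * h2
    have tab : tr (a * b) = 1 := by
      rw [tr, mul_entry, mul_entry, a00, a01, a10, a11, b00, b01, b10, b11]
      linear_combination (ω * ω + ω) * h2
    have hne1 : ∀ z : S₂, tr z = 1 → pr z ≠ 1 := fun z hz e => by
      rw [← map_one (pr : S₂ →* G₂)] at e
      rw [pr_injective e, tr] at hz
      simp at hz
    obtain ⟨c, hc⟩ := exists_conjSub_of_isConj (D := K)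
      (isConj_of_tr_two ((htr1 y hu hu1).trans ta.symm) hu1 (hne1 a ta)) hu
    obtain ⟨hcomm, htr, -⟩ := general (conjSub c K) (hK.conj c) (by rwa [card_conjSub])
    obtain ⟨x, hx⟩ := exists_conjSub_of_isConj
      (isConj_of_tr_two (ta.trans tb.symm) (hne1 a ta) (hne1 b tb)) hc
    obtain ⟨z, hz⟩ := exists_conjSub_of_isConj
      (isConj_of_tr_two (ta.trans tab.symm) (hne1 a ta) (hne1 _ tab)) hc
    refine false_of_pair hb (hK.conj c) hcomm htr hc (fun e => ?_) (by rw [ta]; exact one_ne_zero) hx hz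
    have e01 := congrArg (fun z : S₂ => z.1 0 1) e
    simp only [mul_entry, a00, a01, a10, a11, b00, b01, b10, b11] at e01
    exact one_ne_zero (show (1 : F) = 0 by linear_combination -e01)
  refine ⟨hroot, ?_⟩
  have hyy : pr y * pr y ≠ 1 := fun e => hodd (by
    have : orderOf (⟨pr y, hu⟩ : K) = 2 := orderOf_eq_prime (Subtype.ext (by simp [sq, e]))
      (fun h => hu1 (congrArg Subtype.val h))
    exact this.symm.dvd.trans (orderOf_dvd_natCard _))
  have hset : (K : Set G₂) = {1, pr y, (pr y)⁻¹} := by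
    ext x
    simp only [SetLike.mem_coe, Set.mem_insert_iff, Set.mem_singleton_iff]
    refine ⟨fun hx => ?_, ?_⟩
    · by_cases hx1 : x = 1
      · exact Or.inl hx1
      by_cases hxy : x = (pr y)⁻¹
      · exact Or.inr (Or.inr hxy)
      obtain ⟨e, rfl⟩ := pr_surjective x
      have hm : pr (y * e) ≠ 1 := fun h => hxy (by rw [map_mul] at h; exact eq_inv_of_mul_eq_one_right h)
      have := eq_of_trace_one hroot (htr1 y hu hu1) (htr1 e hx hx1)
        (htr1 _ (by rw [map_mul]; exact mul_mem hu hx) hm)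
      exact Or.inr (Or.inl (by rw [this]))
    · rintro (rfl | rfl | rfl)
      exacts [one_mem K, hu, inv_mem hu]
  rw [← SetLike.coe_sort_coe, hset, Nat.card_coe_set_eq, Set.ncard_eq_three]
  exact ⟨1, pr y, (pr y)⁻¹, Ne.symm hu1, fun e => hu1 (inv_eq_one.1 e.symm),
    fun e => hyy (by nth_rewrite 1 [e]; rw [inv_mul_cancel]), rfl⟩

/-- A minimal member of even order is a full unipotent group. -/
theorem even_member {H D : Subgroup G₂} (hH : H ≠ ⊤) (hb : IsBin H) (hD : IsMinMeet H D)
    (h2d : 2 ∣ Nat.card D) : ∃ g, conjSub g (upperGroup F) = D := by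
  classical
  obtain ⟨u, hu⟩ := exists_prime_orderOf_dvd_card' 2 h2d
  have hu1 : (u : G₂) ≠ 1 := fun e => by
    have : u = 1 := Subtype.ext e
    rw [this, orderOf_one] at hu
    omega
  obtain ⟨P, c, hc, hP⟩ := exists_upper_of_sq hu1 (by
    have := pow_orderOf_eq_one u
    rw [hu, sq] at this
    exact congrArg Subtype.val this)
  refine ⟨pr P, ?_⟩
  set D' := conjSub (pr P)⁻¹ D with hD'def
  have hD' : IsMinMeet H D' := hD.conj _
  suffices hs : upperGroup F = D' by rw [hs, hD'def, conjSub_conjSub, mul_inv_cancel, conjSub_one]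
  have hcD : pr (upper c) ∈ D' := by
    rw [hD'def, mem_conjSub, inv_inv, hP]
    exact u.2
  have hu' : upperGroup F ≤ D' := by
    intro x hx
    obtain ⟨r, rfl⟩ := exists_of_mem_upperGroup hx
    by_cases hr : r = 0
    · rw [hr, upper_zero, map_one]; exact one_mem _
    by_cases hrc : r = c
    · exact hrc ▸ hcD
    have hcr : c + r ≠ 0 := fun e => hrc (CharTwo.add_eq_zero.1 e).symm
    have hconj : ∀ s : F, s ≠ 0 → ∃ x, pr (upper s) ∈ conjSub x D' := fun s hs => exists_conjSub_of_isConj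
      (isConj_of_tr_two (by simp [tr, upper00, upper11]) (pr_upper_ne_one hc) (pr_upper_ne_one hs)) hcD
    obtain ⟨x, hx⟩ := hconj r hr
    obtain ⟨y, hy⟩ := hconj (c + r) hcr
    exact hb.mem_of_conj hD' hcD (pr_upper_ne_one hc) (pr_upper_ne_one hr) hx
      (by rw [← map_mul, upper_mul]; exact hy)
  refine le_antisymm hu' fun x hx => ?_
  obtain ⟨g, rfl⟩ := pr_surjective x
  have hnt : D' ≠ ⊤ := by
    intro e
    obtain ⟨k, hk⟩ := hD'.meet.le_conj
    exact hH (eq_top_of_card_eq _ (by rw [← card_conjSub k H, top_le_iff.1 (e.ge.trans hk), card_top]))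
  have h10 : g.1 1 0 = 0 := by_contra fun h => hnt (eq_top_of_lowerLeft hu' hx h)
  by_contra hgU
  have hd := det_eq g
  rw [h10, mul_zero, sub_zero] at hd
  have h00 : g.1 0 0 ≠ 0 := left_ne_zero_of_mul_eq_one hd
  have hne : g.1 0 0 ≠ 1 := fun e => hgU (by
    rw [e, one_mul] at hd
    rw [show g = upper (g.1 0 1) from ext2 (by rw [upper00, e]) (by rw [upper01]) (by rw [upper10, h10])
      (by rw [upper11, hd])]
    exact upper_mem_upperGroup _)
  set d : S₂ := g * upper (g.1 0 1 / g.1 0 0) with hdd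
  have hdD : pr d ∈ D' := by rw [hdd, map_mul]; exact mul_mem hx (hu' (upper_mem_upperGroup _))
  have d00 : d.1 0 0 = g.1 0 0 := by simp [hdd, mul_entry, upper00, upper10]
  have d01 : d.1 0 1 = 0 := by
    simp [hdd, mul_entry, upper01, upper11]
    field_simp
    rw [show (1 + 1 : F) = 0 from CharTwo.add_self_eq_zero 1, mul_zero]
  have d10 : d.1 1 0 = 0 := by simp [hdd, mul_entry, upper00, upper10, h10]
  have d11 : d.1 1 1 = g.1 1 1 := by simp [hdd, mul_entry, upper01, upper11, h10]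
  set w : S₂ := weyl 1 one_ne_zero with hw
  have hwd : w * d * w⁻¹ = d⁻¹ := by
    rw [mul_inv_eq_iff_eq_mul, eq_inv_mul_iff_mul_eq]
    apply ext2 <;> simp only [mul_entry, d00, d01, d10, d11] <;>
      simp [hw, weyl00, weyl01, weyl10, weyl11, hd, mul_comm (g.1 1 1)]
  have hd1 : pr d ≠ 1 := fun e => by
    rw [← map_one (pr : S₂ →* G₂)] at e
    have h := congrArg (fun z : S₂ => z.1 0 0) (pr_injective e)
    simp [d00, hne] at h
  have hfix : conjSub (pr w) D' = D' := by
    refine hD'.eq_of_mem (x := (pr d)⁻¹) (inv_ne_one.2 hd1) (inv_mem hdD) ?_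
    rw [← map_inv, ← hwd, map_mul, map_mul, map_inv]
    exact conj_mem_conjSub hdD
  have hlow : pr (w * upper c * w⁻¹) ∈ D' := by
    have h := conj_mem_conjSub (g := pr w) hcD
    rw [hfix] at h
    rwa [map_mul, map_mul, map_inv]
  refine hnt (eq_top_of_lowerLeft hu' hlow ?_)
  rw [hw, CfsgLib.LocalEven.RankOne.weyl_conj]
  simp [lower10, hc]

/-- The stabilisers of binary actions in characteristic two. -/
theorem cases_of_isBin (h4 : 4 ≤ Fintype.card F) {H : Subgroup G₂} (hH : H ≠ ⊤) (hne : H ≠ ⊥)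
    (hb : IsBin H) :
    (∃ g, conjSub g (upperGroup F) = H) ∨ ((∀ ω : F, ω * ω + ω + 1 ≠ 0) ∧ Nat.card H = 3) := by
  classical
  have h2 : (2 : F) = 0 := CharTwo.two_eq_zero
  have hdiag : ∀ g : S₂, g.1 1 0 = 0 → tr g = 1 → ∃ ω : F, ω * ω + ω + 1 = 0 := by
    intro g h10 ht
    have hd := det_eq g
    rw [h10] at hd
    rw [tr] at ht
    exact ⟨g.1 0 0, by linear_combination g.1 0 0 * ht - hd + g.1 0 0 * h2⟩
  by_cases hA : ∃ g, conjSub g (upperGroup F) ≤ H
  · left
    obtain ⟨g₀, hg₀⟩ := hA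
    refine ⟨g₀, ?_⟩
    set K := conjSub g₀⁻¹ H with hKdef
    have hK : IsMeet H K := (isMeet_self H).conj _
    have hnt : K ≠ ⊤ := fun e => hH (eq_top_of_card_eq _ (by rw [← card_conjSub g₀⁻¹ H, ← hKdef, e, card_top]))
    have hu : upperGroup F ≤ K := by
      have h := conjSub_mono g₀⁻¹ hg₀
      rwa [conjSub_conjSub, inv_mul_cancel, conjSub_one] at h
    suffices hs : upperGroup F = K by rw [hs, hKdef, conjSub_conjSub, mul_inv_cancel, conjSub_one]
    refine le_antisymm hu fun x hx => ?_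
    obtain ⟨g, rfl⟩ := pr_surjective x
    have h10 : ∀ z : S₂, pr z ∈ K → z.1 1 0 = 0 := fun z hz =>
      by_contra fun h => hnt (eq_top_of_lowerLeft hu hz h)
    by_contra hgU
    have hd := det_eq g
    rw [h10 g hx, mul_zero, sub_zero] at hd
    have hne1 : g.1 0 0 ≠ 1 := fun e => hgU (by
      rw [e, one_mul] at hd
      rw [show g = upper (g.1 0 1) from ext2 (by rw [upper00, e]) (by rw [upper01])
        (by rw [upper10, h10 g hx]) (by rw [upper11, hd])]
      exact upper_mem_upperGroup _)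
    have h00 : g.1 0 0 ≠ 0 := left_ne_zero_of_mul_eq_one hd
    set d : S₂ := g * upper (g.1 0 1 / g.1 0 0) with hdd
    have hdK : pr d ∈ K := by rw [hdd, map_mul]; exact mul_mem hx (hu (upper_mem_upperGroup _))
    have d00 : d.1 0 0 = g.1 0 0 := by simp [hdd, mul_entry, upper00, upper10]
    have d01 : d.1 0 1 = 0 := by
      simp [hdd, mul_entry, upper01, upper11]
      field_simp
      rw [show (1 + 1 : F) = 0 from CharTwo.add_self_eq_zero 1, mul_zero]
    have d10 : d.1 1 0 = 0 := h10 d hdK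
    have d11 : d.1 1 1 = g.1 1 1 := by simp [hdd, mul_entry, upper01, upper11, h10 g hx]
    set w : S₂ := weyl 1 one_ne_zero with hw
    set E := K ⊓ conjSub (pr w) K with hE
    have hdE : (pr d)⁻¹ ∈ E := by
      refine mem_inf.2 ⟨inv_mem hdK, ?_⟩
      have hwd : w * d * w⁻¹ = d⁻¹ := by
        rw [mul_inv_eq_iff_eq_mul, eq_inv_mul_iff_mul_eq]
        apply ext2 <;> simp only [mul_entry, d00, d01, d10, d11] <;>
          simp [hw, weyl00, weyl01, weyl10, weyl11, hd, mul_comm (g.1 1 1)]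
      rw [← map_inv, ← hwd, map_mul, map_mul, map_inv]
      exact conj_mem_conjSub hdK
    have hEne : E ≠ ⊥ := fun e => by
      rw [e, mem_bot, inv_eq_one, ← map_one (pr : S₂ →* G₂)] at hdE
      have h := congrArg (fun z : S₂ => z.1 0 0) (pr_injective hdE)
      simp [d00, hne1] at h
    obtain ⟨D, hD, hDE⟩ := exists_minMeet (hK.inf (hK.conj _)) hEne
    have dia : ∀ z : S₂, pr z ∈ D → z.1 1 0 = 0 ∧ z.1 0 1 = 0 := by
      intro z hz
      obtain ⟨hz1, hz2⟩ := mem_inf.1 (hDE hz)
      refine ⟨h10 z hz1, ?_⟩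
      rw [mem_conjSub, ← map_inv, ← map_mul, ← map_mul] at hz2
      have h := h10 _ hz2
      simp only [mul_entry] at h
      simpa [hw, weyl00, weyl01, weyl10, weyl11, Matrix.SpecialLinearGroup.coe_inv,
        Matrix.adjugate_fin_two] using h
    obtain ⟨v, hv, hv1⟩ := (bot_or_exists_ne_one D).resolve_left hD.ne
    obtain ⟨z, rfl⟩ := pr_surjective v
    by_cases h2d : 2 ∣ Nat.card D
    · obtain ⟨u, hu⟩ := exists_prime_orderOf_dvd_card' 2 h2d
      obtain ⟨e, he⟩ := pr_surjective (u : G₂)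
      have hsq : pr (e * e) = pr (1 : S₂) := by
        have := pow_orderOf_eq_one u
        rw [hu, sq] at this
        rw [map_mul, map_one, he]
        exact congrArg Subtype.val this
      obtain ⟨e10, e01⟩ := dia e (he ▸ u.2)
      have hde := det_eq e
      have s00 := congrArg (fun z : S₂ => z.1 0 0) (pr_injective hsq)
      simp only [mul_entry, e10, e01] at s00
      simp at s00
      have e0 : e.1 0 0 = 1 := by
        rcases mul_self_eq_one_iff.1 s00 with h | h
        · exact h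
        · rw [h, CharTwo.neg_eq]
      rw [e10, e0] at hde
      simp at hde
      have he1 : e = 1 := ext2 (by simp [e0]) (by simp [e01]) (by simp [e10]) (by simp [hde])
      rw [he1, map_one] at he
      rw [show u = 1 from Subtype.ext he.symm, orderOf_one] at hu
      omega
    · obtain ⟨hroot, -⟩ := odd_member hb hD.meet hD.ne h2d
      obtain ⟨hcomm', -⟩ := (⟨dia z hv, trivial⟩ : (z.1 1 0 = 0 ∧ z.1 0 1 = 0) ∧ True)
      have hz3 : tr z = 1 := by
        have hc := (odd_member hb hD.meet hD.ne h2d).2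
        have hz' : (⟨pr z, hv⟩ : D) ^ 3 = 1 := hc ▸ pow_card_eq_one'
        refine tr_eq_one_of_cube (fun e => hv1 (by rw [e, map_one])) (pr_injective ?_)
        rw [map_mul, map_mul, map_one]
        simpa [pow_succ] using congrArg Subtype.val hz'
      obtain ⟨ω, hω⟩ := hdiag z hcomm'.1 hz3
      exact hroot ω hω
  push Not at hA
  by_cases h2H : 2 ∣ Nat.card H
  · exfalso
    obtain ⟨u, hu⟩ := exists_prime_orderOf_dvd_card' 2 h2H
    have hu1 : (u : G₂) ≠ 1 := fun e => by
      rw [show u = 1 from Subtype.ext e, orderOf_one] at hu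
      omega
    obtain ⟨P, c, hc, hP⟩ := exists_upper_of_sq hu1 (by
      have := pow_orderOf_eq_one u
      rw [hu, sq] at this
      exact congrArg Subtype.val this)
    let s : Finset G₂ := Finset.univ.image fun t : F => pr (upper t) * (pr P)⁻¹
    set E := ⨅ x ∈ s, conjSub x H with hEdef
    have hEm : IsMeet H E := isMeet_iInf (Finset.univ_nonempty.image _)
    have memE : ∀ x, x ∈ E ↔ ∀ t : F, pr P * ((pr (upper t))⁻¹ * x * pr (upper t)) * (pr P)⁻¹ ∈ H := by
      intro x
      simp only [hEdef, mem_iInf, s, Finset.mem_image, Finset.mem_univ, true_and, forall_exists_index,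
        forall_apply_eq_imp_iff, mem_conjSub]
      refine forall_congr' fun t => ?_
      simp only [_root_.mul_inv_rev, inv_inv, mul_assoc]
    have hcE : pr (upper c) ∈ E := (memE _).2 fun t => by
      rw [← map_inv (pr : S₂ →* G₂) (upper t), ← map_mul, ← map_mul,
        show (upper t : S₂)⁻¹ * upper c * upper t = upper c by
          rw [mul_assoc, upper_mul, add_comm, ← upper_mul, inv_mul_cancel_left], hP]
      exact u.2
    have hnorm : upperGroup F ≤ normalizer (E : Set G₂) := by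
      intro x hx
      obtain ⟨r, rfl⟩ := exists_of_mem_upperGroup hx
      refine conjSub_eq_iff_mem_normalizer.1 (eq_of_le_of_card_ge (fun y hy => ?_) (by rw [card_conjSub]))
      rw [mem_conjSub] at hy
      refine (memE y).2 fun t => ?_
      have h := (memE _).1 hy (t + r)
      rw [← upper_mul, map_mul] at h
      have hcomm : pr (upper t) * pr (upper r) = pr (upper r) * (pr (upper t) : G₂) := by
        rw [← map_mul, ← map_mul, upper_mul, upper_mul, add_comm]
      have e : (pr (upper t) * pr (upper r))⁻¹ * ((pr (upper r))⁻¹ * y * pr (upper r)) *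
          (pr (upper t) * pr (upper r)) = (pr (upper t))⁻¹ * y * (pr (upper t) : G₂) := by
        rw [_root_.mul_inv_rev, inv_eq_of_mul_eq_one_left (sq_upper r)]
        rw [show pr (upper r) * (pr (upper t))⁻¹ * (pr (upper r) * y * pr (upper r)) *
            (pr (upper t) * pr (upper r)) = pr (upper r) * (pr (upper t))⁻¹ * pr (upper r) * y *
            (pr (upper r) * (pr (upper t) * pr (upper r))) by group]
        rw [hcomm, ← mul_assoc (pr (upper r) : G₂), sq_upper, one_mul,
          show pr (upper r) * (pr (upper t))⁻¹ * pr (upper r) = (pr (upper t) : G₂)⁻¹ from by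
            rw [inv_eq_of_mul_eq_one_left (sq_upper t), ← hcomm, mul_assoc, sq_upper, mul_one]]
      rwa [e] at h
    have hEne : E ≠ ⊥ := fun e => pr_upper_ne_one hc (mem_bot.1 (e ▸ hcE))
    have hEle : E ≤ conjSub (pr P)⁻¹ H := fun x hx => by
      have h := (memE x).1 hx 0
      rw [upper_zero, map_one] at h
      rw [mem_conjSub, inv_inv]
      simpa using h
    have hEnt : E ≠ ⊤ := fun e => hH (eq_top_of_card_eq _ (by
      rw [← card_conjSub (pr P)⁻¹ H, top_le_iff.1 (e.ge.trans hEle), card_top]))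
    obtain ⟨D, hD, hDE⟩ := exists_minMeet hEm hEne
    by_cases h2d : 2 ∣ Nat.card D
    · obtain ⟨g, hg⟩ := even_member hH hb hD h2d
      refine hA (pr P * g) ?_
      have h := conjSub_mono (pr P) ((hg.le.trans hDE).trans hEle)
      rwa [conjSub_conjSub, conjSub_conjSub, mul_inv_cancel, conjSub_one] at h
    · obtain ⟨hroot, hc3⟩ := odd_member hb hD.meet hD.ne h2d
      obtain ⟨v, hv, hv1⟩ := (bot_or_exists_ne_one D).resolve_left hD.ne
      obtain ⟨z, rfl⟩ := pr_surjective v
      have hz' : (⟨pr z, hv⟩ : D) ^ 3 = 1 := hc3 ▸ pow_card_eq_one'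
      have ht : tr z = 1 := by
        refine tr_eq_one_of_cube (fun e => hv1 (by rw [e, map_one])) (pr_injective ?_)
        rw [map_mul, map_mul, map_one]
        simpa [pow_succ] using congrArg Subtype.val hz'
      have h10 : z.1 1 0 ≠ 0 := fun e => by
        obtain ⟨ω, hω⟩ := hdiag z e ht
        exact hroot ω hω
      haveI : IsSimpleGroup G₂ :=
        Matrix.ProjectiveSpecialLinearGroup.rank_two_simple (by rw [Nat.card_eq_fintype_card]; omega)
      have htop : normalizer (E : Set G₂) = ⊤ :=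
        eq_top_of_lowerLeft hnorm (le_normalizer (hDE hv)) h10
      rcases (normalizer_eq_top_iff.1 htop).eq_bot_or_eq_top with e | e
      · exact hEne e
      · exact hEnt e
  · exact Or.inr (odd_member hb (isMeet_self H) hne h2H)

theorem card_upperGroup : Nat.card (upperGroup F) = Fintype.card F := by
  rw [upperGroup, ← Nat.card_congr (MonoidHom.ofInjective ?_).toEquiv, Nat.card_congr Multiplicative.toAdd,
    Nat.card_eq_fintype_card]
  rw [← MonoidHom.ker_eq_bot_iff, eq_bot_iff]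
  intro t ht
  by_contra h
  exact pr_upper_ne_one (show Multiplicative.toAdd t ≠ 0 from h) ht

/-- The full unipotent groups give binary actions. -/
theorem isBin_upper (g : G₂) : IsBin (conjSub g (upperGroup F)) := by
  set H := conjSub g (upperGroup F)
  have hU : ∀ x ∈ H, x * x = 1 ∧ (x ≠ 1 → ∀ y, y * x = x * y → y ∈ H) := by
    intro x hx
    obtain ⟨t, ht⟩ := exists_of_mem_upperGroup (mem_conjSub.1 hx)
    obtain rfl : x = g * pr (upper t) * g⁻¹ := by rw [ht]; group
    refine ⟨?_, fun h1 y hy => mem_conjSub.2 (mem_upperGroup_of_comm (t := t) ?_ ?_)⟩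
    · rw [show g * pr (upper t) * g⁻¹ * (g * pr (upper t) * g⁻¹) = g * (pr (upper t) * pr (upper t)) * g⁻¹ by
        group, sq_upper]
      group
    · rintro rfl
      simp [upper_zero] at h1
    · calc _ = g⁻¹ * (y * (g * pr (upper t) * g⁻¹)) * g := by group
        _ = g⁻¹ * (g * pr (upper t) * g⁻¹ * y) * g := by rw [hy]
        _ = _ := by group
  have inv_self : ∀ {x : G₂}, x * x = 1 → x⁻¹ = x := fun h => inv_eq_of_mul_eq_one_right h
  have hconjH : ∀ k : G₂, ∀ x ∈ conjSub k H, x * x = 1 := fun k x hx => by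
    have h := (hU _ (mem_conjSub.1 hx)).1
    rw [show k⁻¹ * x * k * (k⁻¹ * x * k) = k⁻¹ * (x * x) * k by group] at h
    have h' := congrArg (fun z => k * z * k⁻¹) h
    simpa [mul_assoc] using h'
  have hti : ∀ k : G₂, H ⊓ conjSub k H ≠ ⊥ → conjSub k H = H := by
    intro k hk
    obtain ⟨x, hx, hx1⟩ := (bot_or_exists_ne_one _).resolve_left hk
    refine (eq_of_le_of_card_ge (fun y hy => ?_) (by rw [card_conjSub])).symm
    have hc : y * x = x * y := by
      have h := (hU _ (mul_mem hy hx.1)).1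
      rw [← inv_self h, _root_.mul_inv_rev, inv_self (hU _ hy).1, inv_self (hU _ hx.1).1]
    rw [mem_conjSub]
    refine (hU _ (mem_conjSub.1 hx.2)).2 (fun e => hx1 (by rw [show x = k * (k⁻¹ * x * k) * k⁻¹ by group, e]; group)) _ ?_
    calc _ = k⁻¹ * (y * x) * k := by group
      _ = k⁻¹ * (x * y) * k := by rw [hc]
      _ = _ := by group
  refine isBin_of_ti H hti fun k l a ha ha1 b hb hb1 hab _ => ?_
  have hc : b * a = a * b := by
    rw [← inv_self (hconjH l _ hab), _root_.mul_inv_rev, inv_self (hU a ha).1, inv_self (hconjH k b hb)]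
  refine hti k fun e => hb1 ?_
  exact mem_bot.1 (e ▸ (⟨(hU a ha).2 ha1 b hc, hb⟩ : b ∈ H ⊓ conjSub k H))

/-- Without primitive cube roots the subgroups of order three give binary actions. -/
theorem isBin_three (hroot : ∀ ω : F, ω * ω + ω + 1 ≠ 0) {H : Subgroup G₂} (h3 : Nat.card H = 3) :
    IsBin H := by
  haveI : Fact (Nat.Prime 3) := ⟨Nat.prime_three⟩
  have hti : ∀ k : G₂, H ⊓ conjSub k H ≠ ⊥ → conjSub k H = H := by
    intro k hk
    rcases (Subgroup.card_dvd_of_le (inf_le_left : H ⊓ conjSub k H ≤ H)) |> fun h =>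
      (Nat.dvd_prime Nat.prime_three).1 (h3 ▸ h) with e | e
    · exact absurd (eq_bot_of_card_eq _ e) hk
    · have h1 := eq_of_le_of_card_ge (inf_le_left : H ⊓ conjSub k H ≤ H) (by rw [e, h3])
      exact (eq_of_le_of_card_ge (inf_eq_left.1 h1) (by rw [card_conjSub])).symm
  refine isBin_of_ti H hti fun k l a ha ha1 b hb hb1 hab hab1 => ?_
  have cube : ∀ (m : G₂) (x : G₂), x ∈ conjSub m H → x ≠ 1 → ∀ e : S₂, pr e = x → tr e = 1 := by
    intro m x hx hx1 e he
    have hz : (⟨x, hx⟩ : conjSub m H) ^ 3 = 1 := by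
      have h := pow_card_eq_one' (x := (⟨x, hx⟩ : conjSub m H))
      rwa [card_conjSub, h3] at h
    refine tr_eq_one_of_cube (fun h => hx1 (by rw [← he, h, map_one])) (pr_injective ?_)
    rw [map_mul, map_mul, map_one, he]
    simpa [pow_succ] using congrArg Subtype.val hz
  obtain ⟨a', rfl⟩ := pr_surjective a
  obtain ⟨b', rfl⟩ := pr_surjective b
  rw [← map_mul] at hab hab1
  have heq := eq_of_trace_one hroot (cube 1 _ (by rwa [conjSub_one]) ha1 a' rfl) (cube k _ hb hb1 b' rfl)
    (cube l _ hab hab1 _ rfl)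
  subst heq
  exact hti k fun e => ha1 (mem_bot.1 (e ▸ (⟨ha, hb⟩ : _ ∈ H ⊓ conjSub k H)))

end CfsgLib.BinaryPSL
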