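import Mathlib
import Cfsg.Agent.Lib.Fusion.Basic

/-!
Binary actions on cosets: pairwise meeting cosets of conjugate stabilisers have a common element, and
the intersections of conjugate stabilisers inherit this.
-/

set_option autoImplicit false

namespace CfsgLib.BinaryPSL

open Subgroup
open CfsgLib.Fusion (conjSub mem_conjSub conj_mem_conjSub conjSub_conjSub conjSub_one conjSub_mono
  card_conjSub)

variable {G : Type*} [Group G]

/-- The action on the cosets of `H` is binary. -/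
def IsBin (H : Subgroup G) : Prop :=
  ∀ (n : ℕ) (I J : Fin n → G ⧸ H), 2 ≤ n →
    (∀ i j : Fin n, i ≠ j → ∃ g : G, g • I i = J i ∧ g • I j = J j) → ∃ g : G, ∀ i, g • I i = J i

/-- The intersections of conjugates of `H`. -/
def IsMeet (H D : Subgroup G) : Prop :=
  ∃ s : Finset G, s.Nonempty ∧ ∀ x, x ∈ D ↔ ∀ g ∈ s, x ∈ conjSub g H

theorem smul_coset_iff {H : Subgroup G} (g d c : G) :
    g • (QuotientGroup.mk c : G ⧸ H) = QuotientGroup.mk (d * c) ↔ d⁻¹ * g ∈ conjSub c H := by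
  rw [MulAction.Quotient.smul_mk, QuotientGroup.eq, mem_conjSub, smul_eq_mul,
    show (g * c)⁻¹ * (d * c) = (c⁻¹ * (d⁻¹ * g) * c)⁻¹ by group, inv_mem_iff]

theorem IsBin.helly {H : Subgroup G} (hb : IsBin H) {ι : Type*} [Fintype ι] (hι : 2 ≤ Fintype.card ι)
    (d c : ι → G) (hp : ∀ i j, ∃ g, (d i)⁻¹ * g ∈ conjSub (c i) H ∧ (d j)⁻¹ * g ∈ conjSub (c j) H) :
    ∃ g, ∀ i, (d i)⁻¹ * g ∈ conjSub (c i) H := by
  let e := Fintype.equivFin ι
  obtain ⟨g, hg⟩ := hb (Fintype.card ι) (fun k => QuotientGroup.mk (c (e.symm k)))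
    (fun k => QuotientGroup.mk (d (e.symm k) * c (e.symm k))) hι (fun i j _ => by
      obtain ⟨g, h1, h2⟩ := hp (e.symm i) (e.symm j)
      exact ⟨g, (smul_coset_iff ..).2 h1, (smul_coset_iff ..).2 h2⟩)
  refine ⟨g, fun i => ?_⟩
  have := (smul_coset_iff ..).1 (hg (e i))
  simpa using this

/-- Three pairwise meeting cosets of intersections of conjugates have a common element. -/
theorem IsBin.triple {H D₁ D₂ D₃ : Subgroup G} (hb : IsBin H) (h1 : IsMeet H D₁) (h2 : IsMeet H D₂)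
    (h3 : IsMeet H D₃) {a b : G} (ha : a ∈ D₁) (hb2 : b ∈ D₂) (hab : a * b ∈ D₃) (h12 : D₁ ⊓ D₂ = ⊥) :
    a ∈ D₃ := by
  classical
  obtain ⟨s₁, hs₁, m1⟩ := h1
  obtain ⟨s₂, hs₂, m2⟩ := h2
  obtain ⟨s₃, hs₃, m3⟩ := h3
  have hcard : 2 ≤ Fintype.card (↥s₁ ⊕ (↥s₂ ⊕ ↥s₃)) := by
    simp only [Fintype.card_sum, Fintype.card_coe]
    have := hs₁.card_pos
    have := hs₂.card_pos
    omega
  obtain ⟨g, hg⟩ := hb.helly hcard (Sum.elim (fun _ => 1) (Sum.elim (fun _ => 1) fun _ => a⁻¹))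
    (Sum.elim (fun i => (i : G)) (Sum.elim (fun i => (i : G)) fun i => (i : G))) (by
      have h13 : ∀ (i : ↥s₁) (j : ↥s₃),
          ∃ g, (1 : G)⁻¹ * g ∈ conjSub (i : G) H ∧ a⁻¹⁻¹ * g ∈ conjSub (j : G) H :=
        fun i j => ⟨a⁻¹, by rw [inv_one, one_mul]; exact inv_mem ((m1 a).1 ha _ i.2), by
          rw [inv_inv, mul_inv_cancel]; exact one_mem _⟩
      have h23 : ∀ (i : ↥s₂) (j : ↥s₃),
          ∃ g, (1 : G)⁻¹ * g ∈ conjSub (i : G) H ∧ a⁻¹⁻¹ * g ∈ conjSub (j : G) H :=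
        fun i j => ⟨b, by rw [inv_one, one_mul]; exact (m2 b).1 hb2 _ i.2, by
          rw [inv_inv]; exact (m3 _).1 hab _ j.2⟩
      rintro (i | i | i) (j | j | j)
      · exact ⟨1, by simp, by simp⟩
      · exact ⟨1, by simp, by simp⟩
      · exact h13 i j
      · exact ⟨1, by simp, by simp⟩
      · exact ⟨1, by simp, by simp⟩
      · exact h23 i j
      · obtain ⟨g, h1, h2⟩ := h13 j i; exact ⟨g, h2, h1⟩
      · obtain ⟨g, h1, h2⟩ := h23 j i; exact ⟨g, h2, h1⟩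
      · exact ⟨a⁻¹, by simp, by simp⟩)
  have hg1 : g ∈ D₁ := (m1 g).2 fun x hx => by simpa using hg (Sum.inl ⟨x, hx⟩)
  have hg2 : g ∈ D₂ := (m2 g).2 fun x hx => by simpa using hg (Sum.inr (Sum.inl ⟨x, hx⟩))
  have hg0 : g = 1 := mem_bot.1 (h12 ▸ (⟨hg1, hg2⟩ : g ∈ D₁ ⊓ D₂))
  refine (m3 a).2 fun x hx => ?_
  have := hg (Sum.inr (Sum.inr ⟨x, hx⟩))
  simpa [hg0] using this

theorem isMeet_self (H : Subgroup G) : IsMeet H H :=
  ⟨{1}, Finset.singleton_nonempty 1, fun x => by simp [conjSub_one]⟩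

theorem IsMeet.conj {H D : Subgroup G} (h : IsMeet H D) (g : G) : IsMeet H (conjSub g D) := by
  classical
  obtain ⟨s, hs, m⟩ := h
  refine ⟨s.image (g * ·), hs.image _, fun x => ?_⟩
  simp only [mem_conjSub, m, Finset.forall_mem_image]
  refine forall₂_congr fun c _ => ?_
  rw [show (g * c)⁻¹ * x * (g * c) = c⁻¹ * (g⁻¹ * x * g) * c by group]

theorem IsMeet.inf {H D D' : Subgroup G} (h : IsMeet H D) (h' : IsMeet H D') : IsMeet H (D ⊓ D') := by
  classical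
  obtain ⟨s, hs, m⟩ := h
  obtain ⟨t, -, m'⟩ := h'
  exact ⟨s ∪ t, hs.mono Finset.subset_union_left, fun x => by
    simp only [mem_inf, m, m', Finset.mem_union, or_imp, forall_and]⟩

theorem IsMeet.le_conj {H D : Subgroup G} (h : IsMeet H D) : ∃ g, D ≤ conjSub g H := by
  obtain ⟨s, ⟨g, hg⟩, m⟩ := h
  exact ⟨g, fun x hx => (m x).1 hx g hg⟩

theorem isMeet_iInf {H : Subgroup G} {s : Finset G} (hs : s.Nonempty) :
    IsMeet H (⨅ g ∈ s, conjSub g H) :=
  ⟨s, hs, fun x => by simp only [mem_iInf]⟩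

/-- A minimal non-trivial intersection of conjugates. -/
structure IsMinMeet (H D : Subgroup G) : Prop where
  meet : IsMeet H D
  ne : D ≠ ⊥
  min : ∀ D' : Subgroup G, IsMeet H D' → D' ≤ D → D' = ⊥ ∨ D' = D

theorem exists_minMeet [Finite G] {H E : Subgroup G} (hE : IsMeet H E) (hne : E ≠ ⊥) :
    ∃ D, IsMinMeet H D ∧ D ≤ E := by
  obtain ⟨D, ⟨hD1, hD2, hD3⟩, hmin⟩ := ((Set.toFinite {D : Subgroup G | IsMeet H D ∧ D ≠ ⊥ ∧ D ≤ E})).exists_minimal
    ⟨E, hE, hne, le_rfl⟩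
  refine ⟨D, ⟨hD1, hD2, fun D' h1 h2 => ?_⟩, hD3⟩
  by_cases h0 : D' = ⊥
  · exact Or.inl h0
  · exact Or.inr (le_antisymm h2 (hmin ⟨h1, h0, h2.trans hD3⟩ h2))

theorem IsMinMeet.conj {H D : Subgroup G} (h : IsMinMeet H D) (g : G) : IsMinMeet H (conjSub g D) := by
  refine ⟨h.meet.conj g, fun e => h.ne ?_, fun D' h1 h2 => ?_⟩
  · have := congrArg (conjSub g⁻¹) e
    rwa [conjSub_conjSub, inv_mul_cancel, conjSub_one, show conjSub g⁻¹ (⊥ : Subgroup G) = ⊥ from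
      Subgroup.map_bot _] at this
  · have h3 : conjSub g⁻¹ D' ≤ D := by
      have := conjSub_mono g⁻¹ h2
      rwa [conjSub_conjSub, inv_mul_cancel, conjSub_one] at this
    rcases h.min _ (h1.conj g⁻¹) h3 with e | e
    · left
      have := congrArg (conjSub g) e
      rwa [conjSub_conjSub, mul_inv_cancel, conjSub_one, show conjSub g (⊥ : Subgroup G) = ⊥ from
        Subgroup.map_bot _] at this
    · right
      have := congrArg (conjSub g) e
      rwa [conjSub_conjSub, mul_inv_cancel, conjSub_one] at this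

/-- A conjugate meeting a minimal intersection non-trivially is equal to it. -/
theorem IsMinMeet.eq_of_mem [Finite G] {H D : Subgroup G} (h : IsMinMeet H D) {g x : G} (hx : x ≠ 1)
    (h1 : x ∈ D) (h2 : x ∈ conjSub g D) : conjSub g D = D := by
  rcases h.min _ (h.meet.inf (h.meet.conj g)) inf_le_left with e | e
  · exact absurd (mem_bot.1 (e ▸ (⟨h1, h2⟩ : x ∈ D ⊓ conjSub g D))) hx
  · exact (eq_of_le_of_card_ge (inf_eq_left.1 e) (by rw [card_conjSub])).symm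

/-- An element commuting with a non-trivial member normalizes. -/
theorem IsMinMeet.conj_mem [Finite G] {H D : Subgroup G} (h : IsMinMeet H D) {g x : G} (hx : x ≠ 1)
    (h1 : x ∈ D) (hc : g * x = x * g) {y : G} (hy : y ∈ D) : g * y * g⁻¹ ∈ D := by
  have h2 : x ∈ conjSub g D := by
    rw [mem_conjSub, mul_assoc, ← hc, inv_mul_cancel_left]
    exact h1
  exact (h.eq_of_mem hx h1 h2) ▸ conj_mem_conjSub hy

/-- A member times a conjugate of a member is conjugate to a member only inside. -/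
theorem IsBin.mem_of_conj [Finite G] {H D : Subgroup G} (hb : IsBin H) (h : IsMinMeet H D) {a b : G}
    {x y : G} (ha : a ∈ D) (ha1 : a ≠ 1) (hb1 : b ≠ 1) (hbx : b ∈ conjSub x D)
    (hab : a * b ∈ conjSub y D) : b ∈ D := by
  rcases h.min _ (h.meet.inf (h.meet.conj x)) inf_le_left with e | e
  · have h3 : a ∈ conjSub y D := hb.triple h.meet (h.meet.conj x) (h.meet.conj y) ha hbx hab e
    rw [h.eq_of_mem ha1 ha h3] at hab
    simpa using mul_mem (inv_mem ha) hab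
  · have : conjSub x D = D := (eq_of_le_of_card_ge (inf_eq_left.1 e) (by rw [card_conjSub])).symm
    exact this ▸ hbx

/-- Criterion for a binary action. -/
theorem isBin_of_ti [Finite G] (H : Subgroup G)
    (hti : ∀ g : G, H ⊓ conjSub g H ≠ ⊥ → conjSub g H = H)
    (hmul : ∀ g k : G, ∀ a ∈ H, a ≠ 1 → ∀ b ∈ conjSub g H, b ≠ 1 → a * b ∈ conjSub k H → a * b ≠ 1 →
      conjSub g H = H) : IsBin H := by
  intro n I J hn hp
  choose f hf using fun i => QuotientGroup.mk_surjective (I i)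
  have hst : ∀ (i : Fin n) (g : G), g • I i = I i → g ∈ conjSub (f i) H := by
    intro i g hg
    rw [← hf i, ← one_mul (f i)] at hg
    nth_rewrite 1 [one_mul] at hg
    simpa using (smul_coset_iff g 1 (f i)).1 hg
  have hfix : ∀ (i : Fin n) (g : G), g ∈ conjSub (f i) H → g • I i = I i := by
    intro i g hg
    rw [← hf i]
    simpa using (smul_coset_iff g 1 (f i)).2 (by simpa using hg)
  obtain ⟨i, j, hij⟩ : ∃ i j : Fin n, i ≠ j := ⟨⟨0, by omega⟩, ⟨1, by omega⟩, by simp [Fin.ext_iff]⟩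
  by_cases hall : ∀ i j : Fin n, conjSub (f i) H = conjSub (f j) H
  · obtain ⟨g, hg, -⟩ := hp i j hij
    refine ⟨g, fun k => ?_⟩
    by_cases hk : k = i
    · exact hk ▸ hg
    obtain ⟨g', h1, h2⟩ := hp i k (Ne.symm hk)
    have h3 : (g'⁻¹ * g) • I i = I i := by rw [mul_smul, hg, inv_smul_eq_iff, h1]
    have h4 := hfix k _ (hall i k ▸ hst i _ h3)
    rw [mul_smul, inv_smul_eq_iff] at h4
    rw [h4, h2]
  push Not at hall
  obtain ⟨i, j, hne⟩ := hall
  have hij : i ≠ j := fun e => hne (by rw [e])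
  obtain ⟨g, hgi, hgj⟩ := hp i j hij
  refine ⟨g, fun k => ?_⟩
  by_cases hki : k = i
  · exact hki ▸ hgi
  by_cases hkj : k = j
  · exact hkj ▸ hgj
  obtain ⟨gi, hi1, hi2⟩ := hp i k (Ne.symm hki)
  obtain ⟨gj, hj1, hj2⟩ := hp j k (Ne.symm hkj)
  have ha : gj⁻¹ * g ∈ conjSub (f j) H := hst j _ (by rw [mul_smul, hgj, inv_smul_eq_iff, hj1])
  have hb : g⁻¹ * gi ∈ conjSub (f i) H := hst i _ (by rw [mul_smul, hi1, inv_smul_eq_iff, hgi])
  have hab : gj⁻¹ * g * (g⁻¹ * gi) ∈ conjSub (f k) H := hst k _ (by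
    rw [show gj⁻¹ * g * (g⁻¹ * gi) = gj⁻¹ * gi by group, mul_smul, hi2, inv_smul_eq_iff, hj2])
  -- move the first stabiliser to `H`
  have mv : ∀ (m : Fin n) {x : G}, x ∈ conjSub (f m) H →
      (f j)⁻¹ * x * f j ∈ conjSub ((f j)⁻¹ * f m) H := fun m {x} hx => by
    rw [← conjSub_conjSub]
    have := conj_mem_conjSub (g := (f j)⁻¹) hx
    rwa [inv_inv] at this
  have ha' : (f j)⁻¹ * (gj⁻¹ * g) * f j ∈ H := by simpa [conjSub_one] using mv j ha
  have hne' : conjSub ((f j)⁻¹ * f i) H ≠ H := fun e => hne (by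
    conv_rhs => rw [← e, conjSub_conjSub, mul_inv_cancel_left])
  have hdone : g⁻¹ * gi = 1 ∨ gj⁻¹ * g = 1 → g • I k = J k := by
    rintro (e | e)
    · rw [← hi2, eq_of_inv_mul_eq_one e]
    · rw [← hj2, eq_of_inv_mul_eq_one e]
  by_cases hb1 : g⁻¹ * gi = 1
  · exact hdone (Or.inl hb1)
  by_cases ha1 : gj⁻¹ * g = 1
  · exact hdone (Or.inr ha1)
  exfalso
  have e1 : ∀ {x : G}, (f j)⁻¹ * x * f j = 1 ↔ x = 1 := fun {x} => by
    rw [← conj_eq_one_iff (a := (f j)⁻¹) (b := x), inv_inv]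
  by_cases hab1 : gj⁻¹ * g * (g⁻¹ * gi) = 1
  · refine hne' (hti _ fun e => ha1 ?_)
    have h5 : gj⁻¹ * g ∈ conjSub (f i) H := by
      rw [eq_inv_of_mul_eq_one_left hab1]
      exact inv_mem hb
    exact e1.1 (mem_bot.1 (e ▸ (⟨ha', mv i h5⟩ : _ ∈ H ⊓ conjSub ((f j)⁻¹ * f i) H)))
  refine hne' (hmul _ ((f j)⁻¹ * f k) _ ha' (fun e => ha1 (e1.1 e)) _ (mv i hb)
    (fun e => hb1 (e1.1 e)) ?_ ?_)
  · rw [show ∀ x y z : G, x⁻¹ * y * x * (x⁻¹ * z * x) = x⁻¹ * (y * z) * x from fun x y z => by group]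
    exact mv k hab
  · rw [show ∀ x y z : G, x⁻¹ * y * x * (x⁻¹ * z * x) = x⁻¹ * (y * z) * x from fun x y z => by group]
    exact fun e => hab1 (e1.1 e)

end CfsgLib.BinaryPSL
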