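import Cfsg.Agent.Lib.BinaryPSL.Helly
import Cfsg.Agent.Lib.Fusion.PSL2
import Cfsg.Agent.Lib.SL2Table.Classes
import Cfsg.Agent.Lib.LocalEven.RankOne.Model

/-!
Two by two matrices of determinant one: classes by the trace, pairs of conjugates with a product in the same
class, and the consequences for an abelian stabiliser of odd order of a binary action.
-/

set_option autoImplicit false
set_option linter.unusedSectionVars false

namespace CfsgLib.BinaryPSL

open Matrix Subgroup
open CfsgLib.SL2Table (qf NonScalar sl_isConj exists_qf_eq exists_qf_ne_zero nonScalar_iff qf_smul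
  exists_eq_add_of_comm)
open CfsgLib.Fusion (conjSub mem_conjSub conj_mem_conjSub)
open CfsgLib.Fusion.PSL2 (ext2 det_eq mul_entry negOne mem_center_iff' sq_of_trace_zero trace_zero_of_sq)
open CfsgLib.LocalEven.FaithfulBound (upper lower upper00 upper01 upper10 upper11 lower00 lower01 lower10 lower11)

variable {F : Type*} [Field F]

local notation "S₂" => Matrix.SpecialLinearGroup (Fin 2) F
local notation "G₂" => Matrix.ProjectiveSpecialLinearGroup (Fin 2) F

/-- The projection. -/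
def pr : S₂ →* G₂ := QuotientGroup.mk' _

theorem pr_surjective : Function.Surjective (pr : S₂ → G₂) := QuotientGroup.mk'_surjective _

theorem pr_eq_one_iff {a : S₂} : pr a = 1 ↔ a = 1 ∨ a = negOne :=
  (QuotientGroup.eq_one_iff a).trans mem_center_iff'

/-- The trace. -/
def tr (a : S₂) : F := a.1 0 0 + a.1 1 1

theorem trace_eq (a : S₂) : (a : Matrix (Fin 2) (Fin 2) F).trace = tr a := Matrix.trace_fin_two _

theorem negOne_mul (a : S₂) : ∀ i j, (negOne * a).1 i j = -a.1 i j := fun i j => by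
  rw [mul_entry]
  fin_cases i <;> fin_cases j <;> simp [negOne]

theorem pr_negOne_mul (a : S₂) : pr (negOne * a) = pr a := by
  rw [map_mul, pr_eq_one_iff.2 (Or.inr rfl), one_mul]

theorem pr_negOne : pr (negOne : S₂) = 1 := pr_eq_one_iff.2 (Or.inr rfl)

theorem tr_negOne_mul (a : S₂) : tr (negOne * a) = -tr a := by
  rw [tr, tr, negOne_mul, negOne_mul]; ring

theorem negOne_comm (a : S₂) : negOne * a = a * negOne :=
  ((Subgroup.mem_center_iff.1 (mem_center_iff'.2 (Or.inr rfl))) a).symm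

theorem pr_eq_iff {a b : S₂} : pr a = pr b ↔ a = b ∨ a = negOne * b := by
  rw [← mul_inv_eq_one, ← map_inv, ← map_mul, pr_eq_one_iff, mul_inv_eq_one, mul_inv_eq_iff_eq_mul]

theorem tr_conj {a b : S₂} (h : IsConj a b) : tr b = tr a := by
  rw [← trace_eq, ← trace_eq]; exact CfsgLib.SL2Table.trace_eq_of_isConj h

theorem tr_inv (a : S₂) : tr a⁻¹ = tr a := by
  rw [tr, tr, Matrix.SpecialLinearGroup.coe_inv, Matrix.adjugate_fin_two]
  simp [add_comm]

theorem tr_mul_comm (a b : S₂) : tr (a * b) = tr (b * a) := by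
  rw [← trace_eq, ← trace_eq, Matrix.SpecialLinearGroup.coe_mul, Matrix.SpecialLinearGroup.coe_mul,
    Matrix.trace_mul_comm]

/-- Elements with a common image commute or one has trace zero. -/
theorem commute_of_pr {a b : S₂} (h : pr a * pr b = pr b * pr a) (h0 : tr a ≠ 0) : a * b = b * a := by
  rw [← map_mul, ← map_mul] at h
  rcases pr_eq_iff.1 h with e | e
  · exact e
  · have e2 : b⁻¹ * a * b = negOne * a := by
      rw [mul_assoc, e, ← mul_assoc, ← mul_assoc, ← negOne_comm, mul_assoc negOne, inv_mul_cancel,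
        mul_one]
    have h1 := tr_conj (isConj_iff.2 ⟨b⁻¹, (inv_inv b).symm ▸ rfl⟩ : IsConj a (b⁻¹ * a * b))
    rw [e2, tr_negOne_mul] at h1
    have h2 : (2 : F) * tr a = 0 := by linear_combination -h1
    rcases mul_eq_zero.1 h2 with h2 | h2
    · have hn : (negOne : S₂) = 1 := by
        have h11 : (-1 : F) = 1 := by linear_combination -h2
        exact ext2 (by simp [negOne, h11]) (by simp [negOne]) (by simp [negOne]) (by simp [negOne, h11])
      rw [e, hn, one_mul]
    · exact absurd h2 h0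

theorem nonScalar_of_pr {a : S₂} (h : pr a ≠ 1) : NonScalar (a : Matrix (Fin 2) (Fin 2) F) := by
  rintro ⟨c, hc⟩
  have h00 : a.1 0 0 = c := by rw [hc]; simp
  have h11 : a.1 1 1 = c := by rw [hc]; simp
  have h01 : a.1 0 1 = 0 := by rw [hc]; simp
  have h10 : a.1 1 0 = 0 := by rw [hc]; simp
  have hd := det_eq a
  rw [h00, h11, h01, h10] at hd
  rcases mul_self_eq_one_iff.1 (show c * c = 1 by linear_combination hd) with e | e
  · exact h (pr_eq_one_iff.2 (Or.inl (ext2 (by simp [h00, e]) (by simp [h01]) (by simp [h10])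
      (by simp [h11, e]))))
  · exact h (pr_eq_one_iff.2 (Or.inr (ext2 (by simp [negOne, h00, e]) (by simp [negOne, h01])
      (by simp [negOne, h10]) (by simp [negOne, h11, e]))))

/-- The elements commuting with a non-central element commute with each other. -/
theorem commute_of_commute {e a b : S₂} (he : NonScalar (e : Matrix (Fin 2) (Fin 2) F))
    (ha : a * e = e * a) (hb : b * e = e * b) : a * b = b * a := by
  obtain ⟨α, β, hα⟩ := exists_eq_add_of_comm he (X := (a : Matrix (Fin 2) (Fin 2) F)) (by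
    simpa using congrArg Subtype.val ha)
  obtain ⟨γ, δ, hγ⟩ := exists_eq_add_of_comm he (X := (b : Matrix (Fin 2) (Fin 2) F)) (by
    simpa using congrArg Subtype.val hb)
  apply Subtype.ext
  rw [Matrix.SpecialLinearGroup.coe_mul, Matrix.SpecialLinearGroup.coe_mul, hα, hγ]
  simp only [add_mul, mul_add, smul_mul_assoc, mul_smul_comm, one_mul, mul_one, smul_smul, smul_add]
  rw [mul_comm γ α, mul_comm γ β, mul_comm δ α, mul_comm δ β]
  abel

/-- A conjugate of a member lies in a conjugate subgroup. -/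
theorem exists_conjSub_of_isConj {D : Subgroup G₂} {a b : S₂} (h : IsConj a b) (ha : pr a ∈ D) :
    ∃ x, pr b ∈ conjSub x D := by
  obtain ⟨c, hc⟩ := isConj_iff.1 h
  exact ⟨pr c, by rw [← hc, map_mul, map_mul, map_inv]; exact conj_mem_conjSub ha⟩

section Finite

variable [Fintype F]

/-- Semisimple elements with equal trace are conjugate. -/
theorem isConj_of_tr (h2 : (2 : F) ≠ 0) {a b : S₂} (h : tr a = tr b) (hd : tr a * tr a ≠ 4) :
    IsConj a b := by
  have hna : NonScalar (a : Matrix (Fin 2) (Fin 2) F) := by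
    rintro ⟨c, hc⟩
    have hdet := det_eq a
    rw [show a.1 0 0 = c by rw [hc]; simp, show a.1 1 1 = c by rw [hc]; simp,
      show a.1 0 1 = 0 by rw [hc]; simp] at hdet
    refine hd ?_
    rw [tr, show a.1 0 0 = c by rw [hc]; simp, show a.1 1 1 = c by rw [hc]; simp]
    linear_combination 4 * hdet
  obtain ⟨v, hv⟩ := exists_qf_ne_zero hna
  obtain ⟨w, hw⟩ := exists_qf_eq h2 (M := (b : Matrix (Fin 2) (Fin 2) F))
    (by rw [trace_eq, b.2, ← h, mul_one]; exact sub_ne_zero.2 hd) (qf (a : Matrix (Fin 2) (Fin 2) F) v)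
  exact sl_isConj a b (by rw [trace_eq, trace_eq, h]) hv hw

/-- In characteristic two non-central elements with equal trace are conjugate. -/
theorem isConj_of_tr_two [CharP F 2] {a b : S₂} (h : tr a = tr b) (ha : pr a ≠ 1) (hb : pr b ≠ 1) :
    IsConj a b := by
  obtain ⟨v, hv⟩ := exists_qf_ne_zero (nonScalar_of_pr ha)
  obtain ⟨w, hw⟩ := exists_qf_ne_zero (nonScalar_of_pr hb)
  obtain ⟨s, hs⟩ := FiniteField.isSquare_of_char_two (ringChar.eq F 2)
    (qf (a : Matrix (Fin 2) (Fin 2) F) v / qf (b : Matrix (Fin 2) (Fin 2) F) w)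
  refine sl_isConj a b (by rw [trace_eq, trace_eq, h]) hv (w := s • w) ?_
  rw [qf_smul, ← hs, div_mul_cancel₀ _ hw]

/-- A pair of semisimple conjugates with product in the same class, odd characteristic. -/
theorem exists_pair (h2 : (2 : F) ≠ 0) {a : S₂} (h0 : tr a ≠ 0) (h4 : tr a * tr a ≠ 4) :
    ∃ b : S₂, IsConj a b ∧ (IsConj a (a * b) ∨ IsConj a (negOne * (a * b))) ∧ a * b ≠ b * a := by
  obtain ⟨t, ht⟩ : ∃ t, t = tr a := ⟨_, rfl⟩
  rw [← ht] at h0 h4
  obtain ⟨z, hz, hz2, hzt⟩ : ∃ z : F, (z = t ∨ z = -t) ∧ z ≠ 2 ∧ z ≠ t * t - 2 := by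
    have ht2 : t ≠ 2 := fun e => h4 (by rw [e]; norm_num)
    have ht2' : -t ≠ 2 := fun e => h4 (by linear_combination (2 - t) * e)
    by_cases hm : t = -1
    · refine ⟨-t, Or.inr rfl, ht2', fun e => h2 ?_⟩
      rw [hm] at e
      linear_combination e
    · refine ⟨t, Or.inl rfl, ht2, fun e => ?_⟩
      rcases mul_eq_zero.1 (show (t - 2) * (t + 1) = 0 by linear_combination -e) with e' | e'
      · exact ht2 (sub_eq_zero.1 e')
      · exact hm (eq_neg_of_add_eq_zero_left e')
  -- a point on the conic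
  obtain ⟨u, w, huw⟩ : ∃ u w : F,
      u * (t - u) - (z + w - t * (t - u)) * w = 1 := by
    have hδ : t * t - 4 ≠ 0 := sub_ne_zero.2 h4
    obtain ⟨y, w, hyw⟩ := FiniteField.exists_root_sum_quadratic
      (f := (Polynomial.X ^ 2 : Polynomial F))
      (g := Polynomial.C (-(t * t - 4)) * Polynomial.X ^ 2 +
        (Polynomial.C (-(2 * (t * t - 2 * z))) * Polynomial.X + Polynomial.C (-(t * t - 4))))
      (Polynomial.degree_X_pow 2)
      (by
        rw [Polynomial.degree_add_eq_left_of_degree_lt]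
        · exact Polynomial.degree_C_mul_X_pow 2 (neg_ne_zero.2 hδ)
        · rw [Polynomial.degree_C_mul_X_pow 2 (neg_ne_zero.2 hδ)]
          exact lt_of_le_of_lt Polynomial.degree_linear_le (by decide))
      (FiniteField.odd_card_of_char_ne_two fun h => h2 (by
        have := ringChar.Nat.cast_ringChar (R := F)
        rw [h] at this
        exact_mod_cast this))
    simp at hyw
    refine ⟨(y - t * (w - 1)) / 2, w, ?_⟩
    field_simp
    linear_combination -hyw
  obtain ⟨a', a00, a01, a10, a11⟩ : ∃ a' : S₂, a'.1 0 0 = 0 ∧ a'.1 0 1 = -1 ∧ a'.1 1 0 = 1 ∧ a'.1 1 1 = t :=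
    ⟨⟨!![0, -1; 1, t], by simp [Matrix.det_fin_two]⟩, rfl, rfl, rfl, rfl⟩
  obtain ⟨b', b00, b01, b10, b11⟩ : ∃ b' : S₂, b'.1 0 0 = u ∧ b'.1 0 1 = z + w - t * (t - u) ∧
      b'.1 1 0 = w ∧ b'.1 1 1 = t - u :=
    ⟨⟨!![u, z + w - t * (t - u); w, t - u], by rw [Matrix.det_fin_two]; simpa using huw⟩,
      rfl, rfl, rfl, rfl⟩
  have ta : tr a' = t := by rw [tr, a00, a11, zero_add]
  have tb : tr b' = t := by rw [tr, b00, b11]; ring
  have tab : tr (a' * b') = z := by
    rw [tr, mul_entry, mul_entry, a00, a01, a10, a11, b01, b10, b11]; ring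
  obtain ⟨c, hc⟩ := isConj_iff.1 (isConj_of_tr h2 (ta.trans ht) (by rw [ta]; exact h4))
  have t1 : tr (c * b' * c⁻¹) = t := (tr_conj (isConj_iff.2 ⟨c, rfl⟩)).trans tb
  have hmul : a * (c * b' * c⁻¹) = c * (a' * b') * c⁻¹ := by rw [← hc]; group
  have t2 : tr (a * (c * b' * c⁻¹)) = z := by
    rw [hmul, tr_conj (isConj_iff.2 ⟨c, rfl⟩ : IsConj (a' * b') (c * (a' * b') * c⁻¹)), tab]
  refine ⟨c * b' * c⁻¹, isConj_of_tr h2 (ht.symm.trans t1.symm) (ht ▸ h4), ?_, fun e => ?_⟩
  · rcases hz with rfl | rfl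
    · exact Or.inl (isConj_of_tr h2 (ht.symm.trans t2.symm) (ht ▸ h4))
    · exact Or.inr (isConj_of_tr h2 (by rw [tr_negOne_mul, t2, neg_neg, ht]) (ht ▸ h4))
  · have e' : a' * b' = b' * a' := by
      have h1 : c * (a' * b') * c⁻¹ = c * (b' * a') * c⁻¹ := by
        rw [← hmul, e, ← hc]; group
      simpa using h1
    have e00 := congrArg (fun x : S₂ => x.1 0 0) e'
    have e01 := congrArg (fun x : S₂ => x.1 0 1) e'
    simp only [mul_entry, a00, a01, a10, a11, b00, b01, b10, b11] at e00 e01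
    -- `b'` is `a'` or its inverse
    have hw : (1 - w * w) * (t * t - 4) = 0 := by
      linear_combination 4 * huw + (4 * w) * (-e00) + (2 * u - t - t * w) * (e01 - t * e00)
    rcases mul_eq_zero.1 hw with hw | hw
    swap
    · exact h4 (sub_eq_zero.1 hw)
    rcases mul_self_eq_one_iff.1 (sub_eq_zero.1 hw).symm with rfl | rfl
    · exact hzt (mul_left_cancel₀ h2 (by linear_combination (-2 : F) * e00 - t * (e01 - t * e00)))
    · exact hz2 (mul_left_cancel₀ h2 (by linear_combination (-2 : F) * e00 - t * (e01 - t * e00)))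

end Finite

/-- A pair of conjugates with product in the same class, characteristic two. -/
theorem exists_pair_two [Fintype F] [CharP F 2] {a : S₂} (h0 : tr a ≠ 0) (h1 : tr a ≠ 1) :
    ∃ b : S₂, IsConj a b ∧ IsConj a (a * b) ∧ a * b ≠ b * a := by
  obtain ⟨t, ht⟩ : ∃ t, t = tr a := ⟨_, rfl⟩
  rw [← ht] at h0 h1
  obtain ⟨u, hu⟩ := FiniteField.isSquare_of_char_two (ringChar.eq F 2) (t * t + t)
  obtain ⟨a', a00, a01, a10, a11⟩ : ∃ a' : S₂, a'.1 0 0 = 0 ∧ a'.1 0 1 = 1 ∧ a'.1 1 0 = 1 ∧ a'.1 1 1 = t :=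
    ⟨⟨!![0, 1; 1, t], by simp [Matrix.det_fin_two, CharTwo.neg_eq]⟩, rfl, rfl, rfl, rfl⟩
  obtain ⟨b', b00, b01, b10, b11⟩ : ∃ b' : S₂, b'.1 0 0 = u ∧ b'.1 0 1 = t + 1 + t * (t + u) ∧
      b'.1 1 0 = 1 ∧ b'.1 1 1 = t + u :=
    ⟨⟨!![u, t + 1 + t * (t + u); 1, t + u], by
      rw [Matrix.det_fin_two]
      simp
      have h2 : (2 : F) = 0 := CharTwo.two_eq_zero
      linear_combination -hu + (-1 : F) * h2⟩, rfl, rfl, rfl, rfl⟩
  have h2 : (2 : F) = 0 := CharTwo.two_eq_zero
  have ta : tr a' = t := by rw [tr, a00, a11, zero_add]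
  have tb : tr b' = t := by rw [tr, b00, b11]; linear_combination u * h2
  have tab : tr (a' * b') = t := by
    rw [tr, mul_entry, mul_entry, a00, a01, a10, a11, b01, b10, b11]
    linear_combination (1 + t * (t + u)) * h2
  have hne : ∀ x : S₂, tr x = t → pr x ≠ 1 := fun x hx e => by
    rcases pr_eq_one_iff.1 e with rfl | rfl <;> refine h0 ?_ <;> rw [← hx, tr] <;>
      simp [negOne, CharTwo.neg_eq] <;> linear_combination h2
  obtain ⟨c, hc⟩ := isConj_iff.1 (isConj_of_tr_two (ta.trans ht) (hne a' ta) (hne a ht.symm))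
  have hmul : a * (c * b' * c⁻¹) = c * (a' * b') * c⁻¹ := by rw [← hc]; group
  have t1 : tr (c * b' * c⁻¹) = t := (tr_conj (isConj_iff.2 ⟨c, rfl⟩)).trans tb
  have t2 : tr (a * (c * b' * c⁻¹)) = t := by
    rw [hmul, tr_conj (isConj_iff.2 ⟨c, rfl⟩ : IsConj (a' * b') (c * (a' * b') * c⁻¹)), tab]
  refine ⟨c * b' * c⁻¹, isConj_of_tr_two (ht.symm.trans t1.symm) (hne a ht.symm) (hne _ t1),
    isConj_of_tr_two (ht.symm.trans t2.symm) (hne a ht.symm) (hne _ t2), fun e => h1 ?_⟩
  have e' : a' * b' = b' * a' := by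
    have h1 : c * (a' * b') * c⁻¹ = c * (b' * a') * c⁻¹ := by rw [← hmul, e, ← hc]; group
    simpa using h1
  have e00 := congrArg (fun x : S₂ => x.1 0 0) e'
  simp only [mul_entry, a00, a01, a10, a11, b00, b01, b10, b11] at e00
  have h3 : t * (1 + t + u) = 0 := by linear_combination -e00
  rcases mul_eq_zero.1 h3 with h3 | h3
  · exact absurd h3 h0
  · linear_combination hu + (u - 1 - t) * h3 + t * h2

/-- An abelian member cannot hold an element having such a pair. -/
theorem false_of_pair [Finite G₂] {H D : Subgroup G₂} (hb : IsBin H) (hD : IsMeet H D)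
    (hcomm : ∀ x ∈ D, ∀ y ∈ D, x * y = y * x) (htr : ∀ e : S₂, pr e ∈ D → pr e ≠ 1 → tr e ≠ 0)
    {a b : S₂} (ha : pr a ∈ D) (hab : a * b ≠ b * a) (h0 : tr a ≠ 0) {x y : G₂}
    (hbx : pr b ∈ conjSub x D) (haby : pr (a * b) ∈ conjSub y D) : False := by
  have hcomm' : ∀ g : G₂, ∀ u ∈ conjSub g D, ∀ v ∈ conjSub g D, u * v = v * u := by
    intro g u hu v hv
    have := hcomm _ (mem_conjSub.1 hu) _ (mem_conjSub.1 hv)
    rw [show g⁻¹ * u * g * (g⁻¹ * v * g) = g⁻¹ * (u * v) * g by group,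
      show g⁻¹ * v * g * (g⁻¹ * u * g) = g⁻¹ * (v * u) * g by group] at this
    simpa using this
  have h12 : D ⊓ conjSub x D = ⊥ := by
    refine (eq_bot_iff_forall _).2 fun z hz => ?_
    obtain ⟨e, rfl⟩ := pr_surjective z
    by_contra hne
    have he0 := htr e hz.1 hne
    have h1 : a * e = e * a := commute_of_pr (hcomm _ ha _ hz.1) h0
    have h2 : e * b = b * e := commute_of_pr (hcomm' x _ hz.2 _ hbx) he0
    exact hab (commute_of_commute (nonScalar_of_pr hne) h1 h2.symm)
  rw [map_mul] at haby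
  have h3 := hb.triple hD (hD.conj x) (hD.conj y) ha hbx haby h12
  have h4 := hcomm' y _ h3 _ haby
  rw [mul_assoc (pr a) (pr b) (pr a)] at h4
  exact hab (commute_of_pr (mul_left_cancel h4) h0)

end CfsgLib.BinaryPSL
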