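import Cfsg.Agent.Lib.BinaryPSL.Sub

/-!
In odd characteristic only the regular action of `PSL₂` is binary.
-/

set_option autoImplicit false
set_option linter.unusedSectionVars false

namespace CfsgLib.BinaryPSL

open Matrix Subgroup
open CfsgLib.SL2Table (qf sl_isConj)
open CfsgLib.Fusion (conjSub mem_conjSub conj_mem_conjSub conjSub_eq_iff_mem_normalizer card_conjSub)
open CfsgLib.Fusion.PSL2 (ext2 det_eq mul_entry negOne mem_center_iff' sq_of_trace_zero trace_zero_of_sq wM
  exists_conj_wM torus card_torus negOne_ne_one)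
open CfsgLib.LocalEven.FaithfulBound (upper lower upper00 upper01 upper10 upper11 lower00 lower01 lower10 lower11
  trace_of_pow_char conj_upper_of_trace conj_lower)

variable {F : Type*} [Field F] [Fintype F]

local notation "S₂" => Matrix.SpecialLinearGroup (Fin 2) F
local notation "G₂" => Matrix.ProjectiveSpecialLinearGroup (Fin 2) F

theorem conjSub_ne_top {G : Type*} [Group G] [Finite G] {H : Subgroup G} (hH : H ≠ ⊤) (g : G) :
    conjSub g H ≠ ⊤ := fun e => hH (eq_top_of_card_eq _ (by rw [← card_conjSub g H, e, card_top]))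

theorem IsMinMeet.ne_top {G : Type*} [Group G] [Finite G] {H D : Subgroup G} (h : IsMinMeet H D)
    (hH : H ≠ ⊤) : D ≠ ⊤ := fun e => by
  obtain ⟨g, hg⟩ := h.meet.le_conj
  exact conjSub_ne_top hH g (top_le_iff.1 (e ▸ hg))

/-- The members meet only trivially a large set: all upper and lower elementary matrices cannot normalise. -/
theorem false_of_normalised (h4 : 4 ≤ Fintype.card F) {D : Subgroup G₂} (hne : D ≠ ⊥) (htop : D ≠ ⊤)
    (hu : ∀ s, pr (upper s) ∈ normalizer (D : Set G₂)) (hl : ∀ s, pr (lower s) ∈ normalizer (D : Set G₂)) :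
    False := by
  haveI : IsSimpleGroup G₂ :=
    Matrix.ProjectiveSpecialLinearGroup.rank_two_simple (by rw [Nat.card_eq_fintype_card]; omega)
  have htop' : (normalizer (D : Set G₂)).comap (pr : S₂ →* G₂) = ⊤ :=
    CfsgLib.LocalEven.RankOne.closure_elementary_eq_top hu hl
  have hn : D.Normal := normalizer_eq_top_iff.1 (eq_top_iff.2 fun g _ => by
    obtain ⟨a, rfl⟩ := pr_surjective g
    exact (show a ∈ (normalizer (D : Set G₂)).comap (pr : S₂ →* G₂) from htop' ▸ mem_top a))
  rcases hn.eq_bot_or_eq_top with e | e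
  · exact hne e
  · exact htop e

section Odd

variable (h2 : (2 : F) ≠ 0)
include h2

theorem pr_ne_one_of_tr {a : S₂} (h : tr a ≠ 2) (h' : tr a ≠ -2) : pr a ≠ 1 := fun e => by
  rcases pr_eq_one_iff.1 e with rfl | rfl
  · exact h (by norm_num [tr])
  · exact h' (by norm_num [tr, negOne])

theorem pr_ne_one_of_tr_zero {a : S₂} (h : tr a = 0) : pr a ≠ 1 :=
  pr_ne_one_of_tr h2 (by rw [h]; exact h2.symm) (by rw [h]; exact (neg_ne_zero.2 h2).symm)

/-- Members containing an involution contain its centralizer, which has at least six elements. -/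
theorem involution_facts (h7 : 7 ≤ Fintype.card F) {H D : Subgroup G₂} (hb : IsBin H) (hD : IsMinMeet H D)
    (hw : pr (wM : S₂) ∈ D) :
    (∀ g : G₂, g * pr wM = pr wM * g → g ∈ D) ∧ 6 ≤ Nat.card {g : G₂ // g * pr wM = pr wM * g} ∧
      ∃ x ∈ D, ∃ y ∈ D, x * y ≠ y * x := by
  classical
  have hw0 : tr (wM : S₂) = 0 := by simp [tr, wM]
  have anti : ∀ g : S₂, g.1 1 1 = -g.1 0 0 → g.1 0 1 = g.1 1 0 → pr g ∈ D := by
    intro g e1 e2
    have t0 : tr g = 0 := by rw [tr, e1, add_neg_cancel]
    have t1 : tr (wM * g) = 0 := by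
      simp only [tr, mul_entry]
      simp [wM, e2]
    obtain ⟨P, hP⟩ := exists_conj_wM h2 (g := g) t0
    obtain ⟨R, hR⟩ := exists_conj_wM h2 (g := wM * g) t1
    obtain ⟨x, hx⟩ := exists_conjSub_of_isConj (isConj_iff.2 ⟨P, by rw [← hP, mul_inv_cancel_right]⟩) hw
    obtain ⟨y, hy⟩ := exists_conjSub_of_isConj (isConj_iff.2 ⟨R, by rw [← hR, mul_inv_cancel_right]⟩) hw
    rw [map_mul] at hy
    exact hb.mem_of_conj hD hw (pr_ne_one_of_tr_zero h2 hw0) (pr_ne_one_of_tr_zero h2 t0) hx hy
  obtain ⟨α, β, hαβ⟩ := CfsgLib.Classical.exists_sq_add_sq h2 (-1 : F)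
  obtain ⟨g₀, a00, a01, a10, a11⟩ :
      ∃ g₀ : S₂, g₀.1 0 0 = α ∧ g₀.1 0 1 = β ∧ g₀.1 1 0 = β ∧ g₀.1 1 1 = -α :=
    ⟨⟨!![α, β; β, -α], by rw [Matrix.det_fin_two]; simp; linear_combination -hαβ⟩, rfl, rfl, rfl, rfl⟩
  have hg₀ : pr g₀ ∈ D := anti g₀ (by rw [a11, a00]) (by rw [a01, a10])
  have htor : ∀ t : S₂, t ∈ (torus : Subgroup S₂) → pr t ∈ D := by
    rintro t ⟨e1, e2⟩
    have h1 := anti (t * g₀)
      (by simp only [mul_entry, a00, a01, a10, a11, e1, e2]; ring)
      (by simp only [mul_entry, a00, a01, a10, a11, e1, e2]; ring)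
    simpa using mul_mem h1 (inv_mem hg₀)
  have cases' : ∀ g : S₂, pr g * pr wM = pr wM * pr g →
      g ∈ (torus : Subgroup S₂) ∨ (g.1 1 1 = -g.1 0 0 ∧ g.1 0 1 = g.1 1 0) := by
    intro g hg
    rw [← map_mul, ← map_mul] at hg
    rcases pr_eq_iff.1 hg with e | e <;>
      have e00 := congrArg (fun x : S₂ => x.1 0 0) e <;>
      have e01 := congrArg (fun x : S₂ => x.1 0 1) e <;>
      simp only [mul_entry] at e00 e01 <;>
      simp [negOne, wM] at e00 e01
    · exact Or.inl ⟨e01, e00⟩
    · exact Or.inr ⟨e01.symm, e00⟩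
  -- the torus
  have htc : 6 ≤ Nat.card (torus : Subgroup S₂) := by
    have h1 := card_torus (F := F) h2
    have h3 : Nat.card {t : F // 1 + t ^ 2 = 0} ≤ 2 := by
      rw [Nat.card_eq_fintype_card, Fintype.card_subtype]
      refine le_trans (Finset.card_le_card (t := (Polynomial.X ^ 2 + Polynomial.C (1 : F)).roots.toFinset) ?_)
        ((Multiset.toFinset_card_le _).trans ((Polynomial.card_roots' _).trans (by
          rw [Polynomial.natDegree_X_pow_add_C])))
      intro t ht
      simp only [Finset.mem_filter] at ht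
      simp only [Multiset.mem_toFinset, Polynomial.mem_roots', ne_eq]
      exact ⟨Polynomial.X_pow_add_C_ne_zero two_pos 1, by simp [Polynomial.IsRoot]; linear_combination ht.2⟩
    omega
  refine ⟨fun g hg => ?_, ?_, ?_⟩
  · obtain ⟨a, rfl⟩ := pr_surjective g
    rcases cases' a hg with h | ⟨e1, e2⟩
    exacts [htor a h, anti a e1 e2]
  · -- count
    have hC : ∀ t : S₂, (t ∈ (torus : Subgroup S₂) ∨ (t.1 1 1 = -t.1 0 0 ∧ t.1 0 1 = t.1 1 0)) →
        pr t * pr wM = pr wM * pr t := by
      rintro t (⟨e1, e2⟩ | ⟨e1, e2⟩) <;> rw [← map_mul, ← map_mul, pr_eq_iff]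
      · left; apply ext2 <;> simp only [mul_entry] <;> simp [wM, e1, e2]
      · right; apply ext2 <;> simp only [negOne_mul, mul_entry] <;> simp [negOne, wM, e1, e2]
    let C : Subgroup G₂ := centralizer {pr (wM : S₂)}
    have hmem : ∀ x : G₂, x ∈ C ↔ x * pr wM = pr wM * x := fun x => mem_centralizer_singleton_iff
    let f : Bool × (torus : Subgroup S₂) → C.comap (pr : S₂ →* G₂) := fun x =>
      ⟨if x.1 then g₀ * x.2 else x.2, (hmem _).2 (hC _ (by
        obtain ⟨e1, e2⟩ := x.2.2
        split_ifs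
        · exact Or.inr ⟨by simp only [mul_entry, a00, a01, a10, a11, e1, e2]; ring,
            by simp only [mul_entry, a00, a01, a10, a11, e1, e2]; ring⟩
        · exact Or.inl x.2.2))⟩
    have hf : Function.Injective f := by
      have hg0 : g₀ ∉ (torus : Subgroup S₂) := fun ⟨e1, e2⟩ => by
        rw [a00, a11] at e1; rw [a01, a10] at e2
        have hα : α = 0 := (mul_eq_zero.1 (show (2 : F) * α = 0 by linear_combination e1)).resolve_left h2
        have hβ : β = 0 := (mul_eq_zero.1 (show (2 : F) * β = 0 by linear_combination e2)).resolve_left h2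
        rw [hα, hβ] at hαβ
        norm_num at hαβ
      rintro ⟨b, x⟩ ⟨b', y⟩ h
      have h' := congrArg Subtype.val h
      rcases b <;> rcases b' <;> simp [f] at h'
      · exact Prod.ext rfl (Subtype.ext (by simpa using h'))
      · exact absurd (by rw [show g₀ = (x : S₂) * (y : S₂)⁻¹ by rw [h']; group]; exact mul_mem x.2 (inv_mem y.2)) hg0
      · exact absurd (by rw [show g₀ = (y : S₂) * (x : S₂)⁻¹ by rw [← h']; group]; exact mul_mem y.2 (inv_mem x.2)) hg0
      · exact Prod.ext rfl (Subtype.ext (by simpa using h'))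
    have h5 := Nat.card_le_card_of_injective f hf
    rw [Nat.card_prod, Nat.card_eq_fintype_card (α := Bool), Fintype.card_bool] at h5
    have h6 : Nat.card (C.comap (pr : S₂ →* G₂)) = 2 * Nat.card C := by
      have i1 := Subgroup.card_mul_index (C.comap (pr : S₂ →* G₂))
      rw [Subgroup.index_comap_of_surjective C pr_surjective] at i1
      have i2 : Nat.card S₂ = Nat.card G₂ * Nat.card (pr : S₂ →* G₂).ker := by
        rw [Subgroup.card_eq_card_quotient_mul_card_subgroup (pr : S₂ →* G₂).ker,
          Nat.card_congr (QuotientGroup.quotientKerEquivOfSurjective pr pr_surjective).toEquiv]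
      have i3 : Nat.card (pr : S₂ →* G₂).ker = 2 := by
        have e : ((pr : S₂ →* G₂).ker : Set S₂) = {1, negOne} := Set.ext fun x => pr_eq_one_iff
        rw [← SetLike.coe_sort_coe, e, Nat.card_coe_set_eq, Set.ncard_pair (negOne_ne_one h2).symm]
      have i4 := Subgroup.card_mul_index C
      have i5 : 0 < C.index := Nat.pos_of_ne_zero C.index_ne_zero_of_finite
      rw [i2, i3, ← i4] at i1
      exact Nat.eq_of_mul_eq_mul_right i5 (i1.trans (by ring))
    calc 6 ≤ Nat.card C := by omega
      _ = _ := Nat.card_congr (Equiv.subtypeEquivRight hmem)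
  · -- a rotation and a reflection
    obtain ⟨t, ht, h10, h00⟩ : ∃ t ∈ (torus : Subgroup S₂), t.1 1 0 ≠ 0 ∧ t.1 0 0 ≠ 0 := by
      by_contra hno
      push Not at hno
      have hle : Nat.card (torus : Subgroup S₂) ≤ 4 := by
        let f : ↥(torus : Subgroup S₂) → F × F := fun t => ((t : S₂).1 0 0, (t : S₂).1 1 0)
        have hf : Function.Injective f := fun x y h => by
          simp only [f, Prod.mk.injEq] at h
          exact Subtype.ext (ext2 h.1 (by rw [x.2.2, y.2.2, h.2]) h.2 (by rw [← x.2.1, ← y.2.1, h.1]))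
        have : Set.range f ⊆ ↑({(1, 0), (-1, 0), (0, 1), (0, -1)} : Finset (F × F)) := by
          rintro _ ⟨⟨t, e1, e2⟩, rfl⟩
          have hd := det_eq t
          rw [← e1, e2] at hd
          by_cases h : t.1 1 0 = 0
          · rw [h] at hd
            rcases mul_self_eq_one_iff.1 (show t.1 0 0 * t.1 0 0 = 1 by linear_combination hd) with e | e <;>
              simp [f, e, h]
          · have e0 := hno t ⟨e1, e2⟩ h
            rw [e0] at hd
            rcases mul_self_eq_one_iff.1 (show t.1 1 0 * t.1 1 0 = 1 by linear_combination hd) with e | e <;>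
              simp [f, e0, e]
        rw [← Nat.card_range_of_injective hf, Nat.card_coe_set_eq]
        refine (Set.ncard_le_ncard this (Finset.finite_toSet _)).trans ?_
        rw [Set.ncard_coe_finset]
        exact Finset.card_le_four
      omega
    refine ⟨pr t, htor t ht, pr g₀, hg₀, fun h => h10 ?_⟩
    obtain ⟨e1, e2⟩ := ht
    have h' := commute_of_pr h (by
      rw [tr, ← e1]
      exact fun e => h00 ((mul_eq_zero.1 (show (2 : F) * t.1 0 0 = 0 by linear_combination e)).resolve_left h2))
    have e00 := congrArg (fun x : S₂ => x.1 0 0) h'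
    have e01 := congrArg (fun x : S₂ => x.1 0 1) h'
    simp only [mul_entry, a00, a01, a10, a11, ← e1, e2] at e00 e01
    have hb0 : t.1 1 0 * β = 0 :=
      (mul_eq_zero.1 (show (2 : F) * (t.1 1 0 * β) = 0 by linear_combination -e00)).resolve_left h2
    have ha0 : t.1 1 0 * α = 0 :=
      (mul_eq_zero.1 (show (2 : F) * (t.1 1 0 * α) = 0 by linear_combination e01)).resolve_left h2
    linear_combination -α * ha0 - β * hb0 + t.1 1 0 * hαβ

/-- In odd characteristic the regular action is the only binary one. -/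
theorem eq_bot_of_isBin (h7 : 7 ≤ Fintype.card F) {H : Subgroup G₂} (hH : H ≠ ⊤) (hb : IsBin H) :
    H = ⊥ := by
  classical
  by_contra hne
  obtain ⟨p, hpc⟩ := CharP.exists F
  haveI hp : Fact p.Prime := ⟨CharP.char_is_prime F p⟩
  have hp2 : p ≠ 2 := fun e => h2 (by subst e; exact_mod_cast CharP.cast_eq_zero F 2)
  obtain ⟨D, hD, -⟩ := exists_minMeet (isMeet_self H) hne
  have conjD : ∀ {a b : S₂} {P : S₂}, pr a ∈ D → a = P * b * P⁻¹ →
      IsMinMeet H (conjSub (pr P)⁻¹ D) ∧ pr b ∈ conjSub (pr P)⁻¹ D := by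
    intro a b P ha e
    refine ⟨hD.conj _, ?_⟩
    rw [mem_conjSub, inv_inv, ← map_inv, ← map_mul, ← map_mul, ← e]
    exact ha
  by_cases hpd : p ∣ Nat.card D
  · -- unipotent members
    obtain ⟨u, hu⟩ := exists_prime_orderOf_dvd_card' p hpd
    have hu1 : (u : G₂) ≠ 1 := fun e => hp.out.ne_one (by
      rw [← hu, orderOf_eq_one_iff]; exact Subtype.ext e)
    obtain ⟨a, ha⟩ := pr_surjective (u : G₂)
    obtain ⟨a, ha, hap⟩ : ∃ a, pr a = (u : G₂) ∧ a ^ p = 1 := by
      have h1 : pr (a ^ p) = 1 := by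
        rw [map_pow, ha, ← SubmonoidClass.coe_pow, ← hu, pow_orderOf_eq_one, OneMemClass.coe_one]
      rcases pr_eq_one_iff.1 h1 with e | e
      · exact ⟨a, ha, e⟩
      · refine ⟨negOne * a, by rw [pr_negOne_mul, ha], ?_⟩
        have hc : Commute (negOne : S₂) a := negOne_comm a
        have hsq : (negOne : S₂) * negOne = 1 := by
          apply ext2 <;> simp only [mul_entry] <;> simp [negOne]
        rw [hc.mul_pow, e]
        obtain ⟨k, hk⟩ := hp.out.odd_of_ne_two hp2
        rw [hk, pow_add, pow_mul, sq, hsq, one_pow, pow_one, one_mul, hsq]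
    obtain ⟨P, c, hc0, hP⟩ := conj_upper_of_trace (trace_of_pow_char (p := p) hap)
      (fun e => hu1 (by rw [← ha, e, map_one]))
    obtain ⟨hD', hcD⟩ := conjD (a := a) (b := upper c) (P := P) (ha ▸ u.2) hP.symm
    set D' := conjSub (pr P)⁻¹ D
    -- the lower element
    obtain ⟨m, hm⟩ := conj_lower c (2 / c) (div_ne_zero h2 hc0)
    obtain ⟨x, hx⟩ := exists_conjSub_of_isConj (isConj_iff.2 ⟨m, hm⟩) hcD
    set d : F := -(c * (2 / c) ^ 2) with hd
    have hcd : c * d = -4 := by rw [hd]; field_simp; ring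
    have hd0 : d ≠ 0 := fun e => by
      rw [e, mul_zero] at hcd
      exact mul_ne_zero h2 h2 (by linear_combination hcd)
    have hlo : pr (lower d : S₂) ≠ 1 := fun h => by
      rcases pr_eq_one_iff.1 h with e | e <;>
        refine hd0 ?_ <;>
        have h1 := congrFun (congrFun (congrArg Subtype.val e) 1) 0 <;>
        simpa [lower10, negOne] using h1
    have hprod : IsConj (upper (-c)) (negOne * (upper c * lower d)) := by
      refine sl_isConj _ _ ?_ (v := ![0, 1]) ?_ (w := ![0, 1]) ?_
      · rw [trace_eq, trace_eq, tr_negOne_mul, tr, tr, mul_entry, mul_entry]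
        simp [upper00, upper01, upper10, upper11, lower00, lower01, lower10, lower11]
        linear_combination hcd
      · simp [qf, upper01, hc0]
      · simp only [qf, negOne_mul, mul_entry]
        simp [negOne, upper00, upper01, upper10, upper11, lower00, lower01, lower10, lower11]
    have hcD' : pr (upper (-c) : S₂) ∈ D' := by
      have : (upper (-c) : S₂) * upper c = 1 := by
        rw [CfsgLib.LocalEven.RankOne.upper_mul, neg_add_cancel, upper_zero]
      rw [eq_inv_of_mul_eq_one_left this, map_inv]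
      exact inv_mem hcD
    obtain ⟨y, hy⟩ := exists_conjSub_of_isConj hprod hcD'
    rw [pr_negOne_mul, map_mul] at hy
    have hbD := hb.mem_of_conj hD' hcD (pr_upper_ne_one hc0) hlo hx hy
    refine false_of_normalised (by omega) hD'.ne (hD'.ne_top hH) (fun s => ?_) (fun s => ?_)
    · refine conjSub_eq_iff_mem_normalizer.1 (hD'.eq_of_mem (pr_upper_ne_one hc0) hcD ?_)
      rw [mem_conjSub, ← map_inv, ← map_mul, ← map_mul,
        mul_assoc, CfsgLib.LocalEven.RankOne.upper_mul, add_comm, ← CfsgLib.LocalEven.RankOne.upper_mul,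
        inv_mul_cancel_left]
      exact hcD
    · refine conjSub_eq_iff_mem_normalizer.1 (hD'.eq_of_mem hlo hbD ?_)
      rw [mem_conjSub, ← map_inv, ← map_mul, ← map_mul,
        mul_assoc, CfsgLib.LocalEven.RankOne.lower_mul, add_comm, ← CfsgLib.LocalEven.RankOne.lower_mul,
        inv_mul_cancel_left]
      exact hbD
  · have inv_tr : ∀ {e : S₂}, pr e ≠ 1 → pr e * pr e = 1 → tr e = 0 := fun {e} h1 hsq =>
      trace_zero_of_sq h2 ((QuotientGroup.eq_one_iff _).1 (by rw [← map_mul] at hsq; exact hsq))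
        (fun h => h1 ((QuotientGroup.eq_one_iff _).2 h))
    by_cases h2d : 2 ∣ Nat.card D
    · -- involutions
      have big : ∀ a : D, a ≠ 1 → a * a = 1 →
          6 ≤ Nat.card {y : D // y * a = a * y} ∧ ∃ x ∈ D, ∃ y ∈ D, x * y ≠ y * x := by
        intro a ha1 ha2
        obtain ⟨e, he⟩ := pr_surjective (a : G₂)
        have t0 : tr e = 0 := inv_tr (by rw [he]; exact fun h => ha1 (Subtype.ext h))
          (by rw [he]; exact congrArg Subtype.val ha2)
        obtain ⟨P, hP⟩ := exists_conj_wM h2 (g := e) t0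
        obtain ⟨hD', hw⟩ := conjD (a := e) (b := wM) (P := P) (he ▸ a.2) (by rw [← hP, mul_inv_cancel_right])
        obtain ⟨f1, f2, x, hx, y, hy, hxy⟩ := involution_facts h2 h7 hb hD' hw
        rw [mem_conjSub, inv_inv] at hx hy
        refine ⟨f2.trans ?_, _, hx, _, hy, fun h => hxy ?_⟩
        · have hae : (a : G₂) = pr P * pr wM * (pr P)⁻¹ := by
            rw [← he, ← map_mul, ← hP, map_mul, mul_inv_cancel_right]
          let φ : {g : G₂ // g * pr wM = pr wM * g} → {y : D // y * a = a * y} := fun g =>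
            ⟨⟨pr P * (g : G₂) * (pr P)⁻¹, by
              have := f1 _ g.2
              rwa [mem_conjSub, inv_inv] at this⟩, Subtype.ext (by
                show pr P * (g : G₂) * (pr P)⁻¹ * (a : G₂) = (a : G₂) * (pr P * (g : G₂) * (pr P)⁻¹)
                rw [hae]
                calc _ = pr P * ((g : G₂) * pr wM) * (pr P)⁻¹ := by group
                  _ = pr P * (pr wM * (g : G₂)) * (pr P)⁻¹ := by rw [g.2]
                  _ = _ := by group)⟩
          exact Nat.card_le_card_of_injective φ fun u v h => Subtype.ext (by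
            have := congrArg (fun z : {y : D // y * a = a * y} => ((z : D) : G₂)) h
            simpa [φ] using this)
        · have h1 : pr P * (x * y) * (pr P)⁻¹ = pr P * (y * x) * (pr P)⁻¹ := by
            calc _ = pr P * x * (pr P)⁻¹ * (pr P * y * (pr P)⁻¹) := by group
              _ = _ := h
              _ = _ := by group
          simpa using h1
      obtain ⟨a, ha⟩ := exists_prime_orderOf_dvd_card' 2 h2d
      obtain ⟨-, x, hx, y, hy, hxy⟩ := big a (fun e => by rw [e, orderOf_one] at ha; omega)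
        (by have := pow_orderOf_eq_one a; rwa [ha, sq] at this)
      rcases prime_to_char_cases p D hpd with h | ⟨-, a', h1, h3, h4⟩
      · exact hxy (h x hx y hy)
      · exact absurd (big a' h1 h3).1 h4.not_ge
    · -- an abelian member
      have hcomm := comm_of_odd p D hpd h2d
      have htr : ∀ e : S₂, pr e ∈ D → pr e ≠ 1 → tr e ≠ 0 := fun e he h1 h0 => h2d (by
        have hq : pr e * pr e = 1 := by rw [← map_mul, sq_of_trace_zero h0, pr_negOne]
        have : orderOf (⟨pr e, he⟩ : D) = 2 := orderOf_eq_prime (Subtype.ext (by simp [sq, hq]))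
          (fun h => h1 (congrArg Subtype.val h))
        exact this.symm.dvd.trans (orderOf_dvd_natCard _))
      obtain ⟨u, hu⟩ := (bot_or_exists_ne_one D).resolve_left hD.ne
      obtain ⟨a, rfl⟩ := pr_surjective u
      have h4 : tr a * tr a ≠ 4 := fun e => hpd (by
        obtain ⟨a', ha', t2⟩ : ∃ a', pr a' = pr a ∧ tr a' = 2 := by
          rcases mul_eq_zero.1 (show (tr a - 2) * (tr a + 2) = 0 by linear_combination e) with e' | e'
          · exact ⟨a, rfl, sub_eq_zero.1 e'⟩
          · exact ⟨negOne * a, pr_negOne_mul a, by rw [tr_negOne_mul]; linear_combination -e'⟩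
        obtain ⟨P, c, -, hP⟩ := conj_upper_of_trace (x := a') t2 (fun h => hu.2 (by rw [← ha', h, map_one]))
        have hpa : pr a ^ p = 1 := by
          rw [← ha', ← map_pow, ← hP, conj_pow, upper_pow, CharP.cast_eq_zero,
            zero_mul, upper_zero, mul_one, mul_inv_cancel, map_one]
        have hpow : (⟨pr a, hu.1⟩ : D) ^ p = 1 := Subtype.ext (by
          rw [SubmonoidClass.coe_pow, OneMemClass.coe_one]; exact hpa)
        exact (orderOf_eq_prime hpow fun h => hu.2 (congrArg Subtype.val h)) ▸ orderOf_dvd_natCard _)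
      have h0 := htr a hu.1 hu.2
      obtain ⟨b, hb1, hb2, hb3⟩ := exists_pair h2 h0 h4
      obtain ⟨x, hx⟩ := exists_conjSub_of_isConj hb1 hu.1
      obtain ⟨y, hy⟩ : ∃ y, pr (a * b) ∈ conjSub y D := by
        rcases hb2 with h | h
        · exact exists_conjSub_of_isConj h hu.1
        · obtain ⟨y, hy⟩ := exists_conjSub_of_isConj h hu.1
          exact ⟨y, pr_negOne_mul (a * b) ▸ hy⟩
      exact false_of_pair hb hD.meet hcomm htr hu.1 hb3 h0 hx hy

end Odd

end CfsgLib.BinaryPSL
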