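import Cfsg.Agent.Lib.BinaryPSL.Mat
import Cfsg.Agent.Lib.Classical.Dickson.PSLList
import Cfsg.Agent.Lib.Classical.Dickson.Borel

/-!
Subgroups of `PSL₂` of order prime to the characteristic: odd order means abelian, and a non-abelian one has
an involution with small centralizer.
-/

set_option autoImplicit false
set_option linter.unusedSectionVars false

namespace CfsgLib.BinaryPSL

open Matrix Subgroup
open CfsgLib.LocalEven.FaithfulBound (upper upper00 upper01 upper10 upper11 sl_ext)

variable {F : Type*} [Field F]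

local notation "G₂" => Matrix.ProjectiveSpecialLinearGroup (Fin 2) F

theorem upper_pow (s : F) (n : ℕ) :
    (upper s : Matrix.SpecialLinearGroup (Fin 2) F) ^ n = upper ((n : F) * s) := by
  have h := map_pow (CfsgLib.LocalEven.RankOne.upperHom (F := F)) (Multiplicative.ofAdd s) n
  rw [← ofAdd_nsmul, nsmul_eq_mul] at h
  exact h.symm

theorem upper_zero : (upper (0 : F) : Matrix.SpecialLinearGroup (Fin 2) F) = 1 :=
  sl_ext (by simp [upper00]) (by simp [upper01]) (by simp [upper10]) (by simp [upper11])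

theorem pr_upper_ne_one {c : F} (hc : c ≠ 0) : pr (upper c) ≠ 1 := fun h => by
  refine hc ?_
  rcases pr_eq_one_iff.1 h with e | e
  · have h1 := congrFun (congrFun (congrArg Subtype.val e) 0) 1
    simpa [upper01] using h1
  · have h1 := congrFun (congrFun (congrArg Subtype.val e) 0) 1
    simpa [upper01, CfsgLib.Fusion.PSL2.negOne] using h1

theorem dvd_card_psl (K : Type*) [Field K] [Fintype K] (p : ℕ) [Fact p.Prime] [CharP K p] :
    p ∣ Nat.card (Matrix.ProjectiveSpecialLinearGroup (Fin 2) K) := by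
  have h : orderOf (pr (upper (1 : K))) = p := orderOf_eq_prime
    (by rw [← map_pow, upper_pow, CharP.cast_eq_zero, zero_mul, upper_zero, map_one])
    (pr_upper_ne_one one_ne_zero)
  exact h ▸ orderOf_dvd_natCard _

theorem small_centralizer_dihedral (k : ℕ) [NeZero k] :
    Nat.card {y : DihedralGroup k // y * DihedralGroup.sr 0 = DihedralGroup.sr 0 * y} ≤ 4 := by
  classical
  have h2 : Nat.card {i : Multiplicative (ZMod k) // i ^ 2 = 1} ≤ 2 := by
    rw [Nat.card_eq_fintype_card, Fintype.card_subtype]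
    exact IsCyclic.card_pow_eq_one_le two_pos
  let f : {y : DihedralGroup k // y * DihedralGroup.sr 0 = DihedralGroup.sr 0 * y} →
      Bool × {i : Multiplicative (ZMod k) // i ^ 2 = 1} := fun y =>
    match y with
    | ⟨DihedralGroup.r i, h⟩ => (false, ⟨Multiplicative.ofAdd i, by
        simp only [DihedralGroup.r_mul_sr, DihedralGroup.sr_mul_r, DihedralGroup.sr.injEq, zero_add,
          zero_sub] at h
        rw [← ofAdd_nsmul, two_nsmul]
        nth_rewrite 1 [← h]
        rw [neg_add_cancel, ofAdd_zero]⟩)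
    | ⟨DihedralGroup.sr i, h⟩ => (true, ⟨Multiplicative.ofAdd i, by
        simp only [DihedralGroup.sr_mul_sr, DihedralGroup.r.injEq, zero_sub, sub_zero] at h
        rw [← ofAdd_nsmul, two_nsmul]
        nth_rewrite 1 [← h]
        rw [neg_add_cancel, ofAdd_zero]⟩)
  have hf : Function.Injective f := by
    rintro ⟨a | a, ha⟩ ⟨b | b, hb⟩ h <;> simp [f] at h <;> subst h <;> rfl
  refine (Nat.card_le_card_of_injective f hf).trans ?_
  rw [Nat.card_prod, Nat.card_eq_fintype_card (α := Bool), Fintype.card_bool]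
  omega

variable [Fintype F] (p : ℕ) [Fact p.Prime] [CharP F p]

/-- A subgroup of order prime to `p` is abelian, or has even order and an involution with a centralizer of
order less than six. -/
theorem prime_to_char_cases (D : Subgroup G₂) (hp : ¬ p ∣ Nat.card D) :
    (∀ x ∈ D, ∀ y ∈ D, x * y = y * x) ∨
      (2 ∣ Nat.card D ∧ ∃ a : D, a ≠ 1 ∧ a * a = 1 ∧ Nat.card {y : D // y * a = a * y} < 6) := by
  classical
  have key : ∀ (K : Type) (_ : Group K) (_ : D ≃* K) (x : K), x ≠ 1 → x * x = 1 →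
      Nat.card {y : K // y * x = x * y} < 6 →
      ∃ a : D, a ≠ 1 ∧ a * a = 1 ∧ Nat.card {y : D // y * a = a * y} < 6 := by
    intro K _ e x h1 h2 h3
    refine ⟨e.symm x, by simpa using h1, by rw [← map_mul, h2, map_one], ?_⟩
    refine lt_of_le_of_lt ?_ h3
    refine Nat.le_of_eq (Nat.card_congr (e.toEquiv.subtypeEquiv fun y => ?_))
    show y * e.symm x = e.symm x * y ↔ e y * x = x * e y
    rw [← e.injective.eq_iff, map_mul, map_mul, e.apply_symm_apply]
  have hcard : ∀ (K : Type) (_ : Group K), D ≃* K → Nat.card D = Nat.card K := fun K _ e =>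
    Nat.card_congr e.toEquiv
  rcases CfsgLib.Classical.Dickson.dickson_list p rfl D with
    ⟨k, -, ⟨hcyc, -⟩ | ⟨⟨e⟩⟩⟩ | ⟨P, K, hKP, ⟨e⟩⟩ | ⟨⟨e⟩⟩ | ⟨⟨e⟩⟩ | ⟨⟨e⟩⟩ | ⟨K, _, _, m, hm, hK⟩
  · left
    intro x hx y hy
    haveI := hcyc
    exact congrArg Subtype.val ((IsCyclic.commutative (α := D)).is_comm.comm ⟨x, hx⟩ ⟨y, hy⟩ :)
  · right
    rcases Nat.eq_zero_or_pos k with rfl | hk
    · have : Finite (DihedralGroup 0) := Finite.of_equiv D e.toEquiv
      haveI : Finite (ZMod 0) := Finite.of_injective DihedralGroup.r fun a b h => by simpa using h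
      exact (not_finite (ZMod 0)).elim
    haveI : NeZero k := ⟨hk.ne'⟩
    refine ⟨(hcard _ _ e).symm ▸ DihedralGroup.nat_card ▸ dvd_mul_right 2 k, key _ _ e (DihedralGroup.sr 0) ?_ ?_ ?_⟩
    · intro h
      rw [DihedralGroup.one_def] at h
      cases h
    · exact DihedralGroup.sr_mul_self 0
    · exact lt_of_le_of_lt (small_centralizer_dihedral k) (by norm_num)
  · left
    intro x hx y hy
    have h1 := CfsgLib.Classical.Dickson.commutator_mem_sylow p P (hKP (e ⟨x, hx⟩).2) (hKP (e ⟨y, hy⟩).2)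
    set c : K := e ⟨x, hx⟩ * e ⟨y, hy⟩ * (e ⟨x, hx⟩)⁻¹ * (e ⟨y, hy⟩)⁻¹ with hc
    have hc1 : c = 1 := by
      obtain ⟨k, hk⟩ := P.isPGroup' ⟨(c : G₂), h1⟩
      have h2 : orderOf c ∣ p ^ k := by
        rw [← Subgroup.orderOf_coe]
        exact orderOf_dvd_of_pow_eq_one (by simpa using congrArg Subtype.val hk)
      obtain ⟨i, -, hi⟩ := (Nat.dvd_prime_pow Fact.out).1 h2
      rcases Nat.eq_zero_or_pos i with rfl | hi0
      · rwa [pow_zero, orderOf_eq_one_iff] at hi
      · exfalso
        refine hp ?_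
        rw [Nat.card_congr e.toEquiv]
        exact (dvd_pow_self p hi0.ne').trans (hi ▸ orderOf_dvd_natCard c)
    have h3 : e (⟨x, hx⟩ * ⟨y, hy⟩) = e (⟨y, hy⟩ * ⟨x, hx⟩) := by
      rw [map_mul, map_mul, ← mul_inv_eq_one, ← hc1, hc]
      group
    exact congrArg Subtype.val (e.injective h3 :)
  · right
    refine ⟨(hcard _ _ e).symm ▸ (by rw [Nat.card_eq_fintype_card]; decide +kernel), ?_⟩
    obtain ⟨x, h1, h2, h3⟩ : ∃ x : alternatingGroup (Fin 4), x ≠ 1 ∧ x * x = 1 ∧
        (Finset.univ.filter fun y => y * x = x * y).card < 6 := by decide +kernel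
    exact key _ _ e x h1 h2 (by rwa [Nat.card_eq_fintype_card, Fintype.card_subtype])
  · right
    refine ⟨(hcard _ _ e).symm ▸ (by simp [Nat.card_eq_fintype_card, Fintype.card_perm]; decide), ?_⟩
    obtain ⟨x, h1, h2, h3⟩ : ∃ x : Equiv.Perm (Fin 4), x ≠ 1 ∧ x * x = 1 ∧
        (Finset.univ.filter fun y => y * x = x * y).card < 6 := by decide +kernel
    exact key _ _ e x h1 h2 (by rwa [Nat.card_eq_fintype_card, Fintype.card_subtype])
  · right
    refine ⟨(hcard _ _ e).symm ▸ (by rw [Nat.card_eq_fintype_card]; decide +kernel), ?_⟩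
    obtain ⟨x, h1, h2, h3⟩ : ∃ x : alternatingGroup (Fin 5), x ≠ 1 ∧ x * x = 1 ∧
        (Finset.univ.filter fun y => y * x = x * y).card < 6 := by decide +kernel
    exact key _ _ e x h1 h2 (by rwa [Nat.card_eq_fintype_card, Fintype.card_subtype])
  · exfalso
    have hK' : CharP K p := by
      obtain ⟨r, hr⟩ := CharP.exists K
      obtain ⟨n, hrp, hn⟩ := FiniteField.card K r
      obtain ⟨n', -, hn'⟩ := FiniteField.card F p
      have h0 : m ≠ 0 := by
        rintro rfl
        exact (Fintype.one_lt_card (α := F)).ne' (by rw [← hm, pow_zero])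
      have : r ∣ p ^ (n' : ℕ) := by
        rw [← hn', ← hm, hn, ← pow_mul]
        exact dvd_pow_self r (mul_ne_zero n.ne_zero h0)
      have : r = p := (Nat.prime_dvd_prime_iff_eq hrp Fact.out).1 (hrp.dvd_of_dvd_pow this)
      exact this ▸ hr
    rcases hK with ⟨⟨e⟩⟩ | ⟨⟨e⟩⟩
    · exact hp (hcard _ _ e ▸ dvd_card_psl K p)
    · exact hp (hcard _ _ e ▸ (dvd_card_psl K p).trans (Subgroup.card_dvd_of_injective _
        Matrix.ProjectiveSpecialLinearGroup.toPGL_injective))

theorem comm_of_odd (D : Subgroup G₂) (hp : ¬ p ∣ Nat.card D) (h2 : ¬ 2 ∣ Nat.card D) :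
    ∀ x ∈ D, ∀ y ∈ D, x * y = y * x :=
  (prime_to_char_cases p D hp).resolve_right fun h => h2 h.1

end CfsgLib.BinaryPSL
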